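import Groth.Agent.HypAcyc.Cech
import Groth.Agent.SSExist.H0Derived
import Mathlib.Algebra.Homology.Double
import Mathlib.Algebra.Homology.HomologicalComplexAbelian
import Mathlib.Algebra.Homology.GrothendieckAbelian
import Mathlib.Algebra.Category.Grp.AB

/-!
# Čech complexes are exact on presheaves; injective complexes are acyclic
-/

set_option autoImplicit false
set_option linter.style.haveILetI false

open CategoryTheory CategoryTheory.Limits Opposite Simplicial

namespace Groth.Agent.HypAcyc

universe u

variable {C : Type u} [SmallCategory C] (K : SimplicialObject (FormalCoproduct.{u} C))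

/-- The Čech complex functor on presheaves. -/
noncomputable abbrev cechPre : (Cᵒᵖ ⥤ AddCommGrpCat.{u}) ⥤ CochainComplex AddCommGrpCat.{u} ℕ :=
  FormalCoproduct.cochainComplexFunctor K

lemma cechPre_map_proj {P Q : Cᵒᵖ ⥤ AddCommGrpCat.{u}} (t : P ⟶ Q) (n : ℕ) (i : (K _⦋n⦌).I)
    (a : piVal P (K _⦋n⦌)) :
    vproj Q (K _⦋n⦌) i (((cechPre K).map t).f n a) = t.app _ (vproj P (K _⦋n⦌) i a) :=
  ConcreteCategory.congr_hom (Pi.map_π (fun i : (K _⦋n⦌).I => t.app (op ((K _⦋n⦌).obj i))) i) a

lemma cechPre_map_add {P Q : Cᵒᵖ ⥤ AddCommGrpCat.{u}} (s t : P ⟶ Q) :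
    (cechPre K).map (s + t) = (cechPre K).map s + (cechPre K).map t := by
  refine HomologicalComplex.hom_ext _ _ fun n => AddCommGrpCat.hom_ext (AddMonoidHom.ext fun a => vproj_ext fun i => ?_)
  refine (cechPre_map_proj K (s + t) n i a).trans ?_
  exact (congrArg₂ (· + ·) (cechPre_map_proj K s n i a).symm (cechPre_map_proj K t n i a).symm).trans
    ((vproj Q (K _⦋n⦌) i).map_add _ _).symm

instance cechPre_additive : (cechPre K).Additive where
  map_add := cechPre_map_add K _ _

lemma cechPre_shortExact {S : ShortComplex (Cᵒᵖ ⥤ AddCommGrpCat.{u})} (hS : S.ShortExact) :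
    (S.map (cechPre K)).ShortExact := by
  refine HomologicalComplex.shortExact_of_degreewise_shortExact _ fun n => ?_
  haveI := hS.mono_f
  haveI := hS.epi_g
  have hV : ∀ V, (S.map ((evaluation Cᵒᵖ AddCommGrpCat.{u}).obj V)).ShortExact := fun V =>
    hS.map_of_exact _
  refine { exact := ?_, mono_f := ?_, epi_g := ?_ }
  · rw [ShortComplex.ab_exact_iff]
    intro a ha
    have hv : ∀ i, ∃ v, S.f.app _ v = vproj S.X₂ (K _⦋n⦌) i a := fun i =>
      (ShortComplex.ab_exact_iff _).1 (hV _).exact _
        ((cechPre_map_proj K S.g n i a).symm.trans ((congrArg (vproj S.X₃ (K _⦋n⦌) i) ha).trans (map_zero _)))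
    choose v hv using hv
    exact ⟨vmk S.X₁ (K _⦋n⦌) v, vproj_ext fun i =>
      (cechPre_map_proj K S.f n i _).trans ((congrArg _ (vproj_vmk _ _ v i)).trans (hv i))⟩
  · rw [AddCommGrpCat.mono_iff_injective]
    intro a b hab
    refine vproj_ext fun i => (AddCommGrpCat.mono_iff_injective _).1 (hV _).mono_f ?_
    exact (cechPre_map_proj K S.f n i a).symm.trans
      ((congrArg (vproj S.X₂ (K _⦋n⦌) i) hab).trans (cechPre_map_proj K S.f n i b))
  · rw [AddCommGrpCat.epi_iff_surjective]
    intro c
    choose v hv using fun i => (AddCommGrpCat.epi_iff_surjective _).1 (hV _).epi_g (vproj S.X₃ (K _⦋n⦌) i c)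
    exact ⟨vmk S.X₂ (K _⦋n⦌) v, vproj_ext fun i =>
      (cechPre_map_proj K S.g n i _).trans ((congrArg _ (vproj_vmk _ _ v i)).trans (hv i))⟩

instance cechPre_preservesFiniteLimits : PreservesFiniteLimits (cechPre K) :=
  (Functor.preservesFiniteLimits_iff_forall_exact_map_and_mono _).2 fun _ hS =>
    ⟨(cechPre_shortExact K hS).exact, (cechPre_shortExact K hS).mono_f⟩

instance cechPre_preservesFiniteColimits : PreservesFiniteColimits (cechPre K) :=
  (Functor.preservesFiniteColimits_iff_forall_exact_map_and_epi _).2 fun _ hS =>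
    ⟨(cechPre_shortExact K hS).exact, (cechPre_shortExact K hS).epi_g⟩

/-- Injective cochain complexes are acyclic in positive degrees. -/
theorem isZero_homology_of_injective {A : Type (u + 1)} [Category.{u} A] [Abelian A] (I : CochainComplex A ℕ)
    [Injective I] (n : ℕ) : IsZero (I.homology (n + 1)) := by
  refine HomologicalComplex.ExactAt.isZero_homology ?_
  rw [HomologicalComplex.exactAt_iff' _ n (n + 1) (n + 1 + 1) (by simp) (by simp), ShortComplex.exact_iff_epi_toCycles]
  let S := I.sc' n (n + 1) (n + 1 + 1)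
  have hij : (ComplexShape.up ℕ).Rel n (n + 1) := rfl
  let D := HomologicalComplex.double (𝟙 S.cycles) hij
  let φ : (HomologicalComplex.single A (ComplexShape.up ℕ) (n + 1)).obj S.cycles ⟶ I :=
    HomologicalComplex.mkHomFromSingle S.iCycles (fun j hj => by
      obtain rfl : n + 1 + 1 = j := hj
      exact S.iCycles_g)
  let j : (HomologicalComplex.single A (ComplexShape.up ℕ) (n + 1)).obj S.cycles ⟶ D :=
    HomologicalComplex.mkHomFromSingle (HomologicalComplex.doubleXIso₁ (𝟙 S.cycles) hij (by omega)).inv
      (fun k hk => by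
        rw [HomologicalComplex.double_d_eq_zero₀ _ _ _ _ (by omega : n + 1 ≠ n), comp_zero])
  haveI : Mono j := by
    haveI : ∀ k, Mono (j.f k) := fun k => by
      by_cases hk : k = n + 1
      · subst hk
        simp only [j, HomologicalComplex.mkHomFromSingle_f]
        infer_instance
      · exact ⟨fun _ _ _ => (HomologicalComplex.isZero_single_obj_X _ _ _ _ hk).eq_of_tgt _ _⟩
    exact HomologicalComplex.mono_of_mono_f j this
  let ψ := Injective.factorThru φ j
  have h1 : S.iCycles =
      (HomologicalComplex.doubleXIso₁ (𝟙 S.cycles) hij (by omega)).inv ≫ ψ.f (n + 1) := by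
    have := HomologicalComplex.congr_hom (Injective.comp_factorThru φ j) (n + 1)
    simp only [HomologicalComplex.comp_f, φ, j, HomologicalComplex.mkHomFromSingle_f, Category.assoc] at this
    exact ((cancel_epi _).1 this).symm
  let x : S.cycles ⟶ S.X₁ := (HomologicalComplex.doubleXIso₀ (𝟙 S.cycles) hij).inv ≫ ψ.f n
  have hx : x ≫ S.toCycles = 𝟙 _ := by
    rw [← cancel_mono S.iCycles, Category.assoc, ShortComplex.toCycles_i, Category.id_comp, h1]
    show ((HomologicalComplex.doubleXIso₀ (𝟙 S.cycles) hij).inv ≫ ψ.f n) ≫ I.d n (n + 1) = _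
    rw [Category.assoc, ψ.comm n (n + 1), HomologicalComplex.double_d _ _ (by omega)]
    simp
  haveI : Epi (x ≫ S.toCycles) := by rw [hx]; infer_instance
  exact epi_of_epi x S.toCycles

instance cochainComplex_hasInjectiveResolutions :
    HasInjectiveResolutions (CochainComplex AddCommGrpCat.{u} ℕ) :=
  inferInstance

/-- Zeroth cohomology of cochain complexes is effaced by injectives. -/
theorem isEffaceable_id : SSExist.IsEffaceable (𝟭 (CochainComplex AddCommGrpCat.{u} ℕ)) where
  exact _ hS := hS
  injective I hI n := haveI := hI; isZero_homology_of_injective I n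

end Groth.Agent.HypAcyc
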