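import Groth.Agent.HypAcyc.Over
import Mathlib.CategoryTheory.Adjunction.Additive
import Mathlib.CategoryTheory.Limits.Shapes.ConcreteCategory
import Mathlib.CategoryTheory.Sites.Abelian
import Mathlib.CategoryTheory.Preadditive.Injective.Basic
import Mathlib.CategoryTheory.Preadditive.Yoneda.Basic

/-!
# Čech complexes of simplicial formal coproducts as complexes of morphisms
-/

set_option autoImplicit false
set_option linter.style.haveILetI false

open CategoryTheory CategoryTheory.Limits Opposite Simplicial AlgebraicTopology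

namespace Groth.Agent.HypAcyc

universe u

variable {C : Type u} [SmallCategory C] (J : GrothendieckTopology C)

/-- The value on a formal coproduct. -/
noncomputable abbrev piVal (P : Cᵒᵖ ⥤ AddCommGrpCat.{u}) (Z : FormalCoproduct.{u} C) : AddCommGrpCat.{u} :=
  ((FormalCoproduct.evalOp.{u} C AddCommGrpCat.{u}).obj P).obj (op Z)

/-- A component. -/
noncomputable def vproj (P : Cᵒᵖ ⥤ AddCommGrpCat.{u}) (Z : FormalCoproduct.{u} C) (i : Z.I) :
    piVal P Z →+ P.obj (op (Z.obj i)) :=
  (Pi.π (fun i : Z.I => P.obj (op (Z.obj i))) i).hom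

lemma vproj_ext {P : Cᵒᵖ ⥤ AddCommGrpCat.{u}} {Z : FormalCoproduct.{u} C} {a b : piVal P Z}
    (h : ∀ i, vproj P Z i a = vproj P Z i b) : a = b :=
  Concrete.limit_ext (Discrete.functor fun i : Z.I => P.obj (op (Z.obj i))) a b (fun ⟨i⟩ => h i)

/-- An element with given components. -/
noncomputable def vmk (P : Cᵒᵖ ⥤ AddCommGrpCat.{u}) (Z : FormalCoproduct.{u} C)
    (v : ∀ i, P.obj (op (Z.obj i))) : piVal P Z :=
  (Concrete.productEquiv (fun i : Z.I => P.obj (op (Z.obj i)))).symm v

lemma vproj_vmk (P : Cᵒᵖ ⥤ AddCommGrpCat.{u}) (Z : FormalCoproduct.{u} C) (v : ∀ i, P.obj (op (Z.obj i)))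
    (i : Z.I) : vproj P Z i (vmk P Z v) = v i :=
  Concrete.productEquiv_symm_apply_π (fun i : Z.I => P.obj (op (Z.obj i))) v i

/-- The free presheaf on a formal coproduct. -/
noncomputable abbrev freeEv (Z : FormalCoproduct.{u} C) : Cᵒᵖ ⥤ AddCommGrpCat.{u} :=
  ((Functor.whiskeringRight _ _ _).obj AddCommGrpCat.free.{u}).obj (ev Z)

/-- The tautological section. -/
noncomputable def gen (Z : FormalCoproduct.{u} C) (i : Z.I) : (ev Z).obj (op (Z.obj i)) :=
  pt (FormalCoproduct.Hom.fromIncl i (𝟙 (Z.obj i)))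

lemma pt_eq_map_gen {W : C} {Z : FormalCoproduct.{u} C} (φ : single W ⟶ Z) :
    pt φ = (ev Z).map (φ.φ PUnit.unit).op (gen Z (φ.f PUnit.unit)) :=
  (congrArg pt (FormalCoproduct.hom_ext rfl fun _ => (Category.comp_id _).trans (Category.comp_id _).symm :
    φ = (FormalCoproduct.incl C).map (φ.φ PUnit.unit) ≫ FormalCoproduct.Hom.fromIncl (φ.f PUnit.unit) (𝟙 _))).trans
    (pt_map _ _)

/-- Values of a morphism on tautological sections. -/
noncomputable def toPi (P : Cᵒᵖ ⥤ AddCommGrpCat.{u}) (Z : FormalCoproduct.{u} C) :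
    (freeEv Z ⟶ P) →+ piVal P Z :=
  AddMonoidHom.mk' (fun α => vmk P Z fun i => α.app (op (Z.obj i)) (FreeAbelianGroup.of (gen Z i))) fun α β =>
    vproj_ext fun i => by
      rw [map_add, vproj_vmk, vproj_vmk, vproj_vmk]
      rfl

lemma vproj_toPi (P : Cᵒᵖ ⥤ AddCommGrpCat.{u}) (Z : FormalCoproduct.{u} C) (α : freeEv Z ⟶ P) (i : Z.I) :
    vproj P Z i (toPi P Z α) = α.app (op (Z.obj i)) (FreeAbelianGroup.of (gen Z i)) :=
  vproj_vmk _ _ _ i

lemma app_of_pt {P : Cᵒᵖ ⥤ AddCommGrpCat.{u}} {W : C} {Z : FormalCoproduct.{u} C} (α : freeEv Z ⟶ P)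
    (φ : single W ⟶ Z) :
    α.app (op W) (FreeAbelianGroup.of (pt φ)) =
      P.map (φ.φ PUnit.unit).op (α.app (op (Z.obj (φ.f PUnit.unit))) (FreeAbelianGroup.of (gen Z (φ.f PUnit.unit)))) := by
  refine Eq.trans (congrArg (α.app (op W)) ?_) (ConcreteCategory.congr_hom (α.naturality (φ.φ PUnit.unit).op) _)
  exact (congrArg FreeAbelianGroup.of (pt_eq_map_gen φ)).trans
    (FreeAbelianGroup.map_of_apply (f := (ev Z).map (φ.φ PUnit.unit).op) _).symm

lemma toPi_bijective (P : Cᵒᵖ ⥤ AddCommGrpCat.{u}) (Z : FormalCoproduct.{u} C) :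
    Function.Bijective (toPi P Z) := by
  constructor
  · intro α β h
    refine NatTrans.ext (funext fun W => AddCommGrpCat.hom_ext (FreeAbelianGroup.lift_ext _ _ fun x => ?_))
    obtain ⟨W, rfl⟩ := Opposite.op_surjective W
    obtain ⟨φ, rfl⟩ := exists_pt x
    refine (app_of_pt α φ).trans (Eq.trans (congrArg (P.map _) ?_) (app_of_pt β φ).symm)
    rw [← vproj_toPi, ← vproj_toPi, h]
  · intro a
    let val : ∀ W, (ev Z).obj W → P.obj W := fun W x =>
      let φ : single W.unop ⟶ Z := (unpt Z).app W x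
      P.map (φ.φ PUnit.unit).op (vproj P Z (φ.f PUnit.unit) a)
    refine ⟨{ app := fun W => AddCommGrpCat.ofHom (FreeAbelianGroup.lift (val W))
              naturality := fun W W' g => AddCommGrpCat.hom_ext (FreeAbelianGroup.lift_ext _ _ fun x => ?_) },
      vproj_ext fun i => ?_⟩
    · obtain ⟨W, rfl⟩ := Opposite.op_surjective W
      obtain ⟨φ, rfl⟩ := exists_pt x
      refine ((congrArg (FreeAbelianGroup.lift (val W')) (FreeAbelianGroup.map_of_apply (f := (ev Z).map g) _)).trans
        (FreeAbelianGroup.lift_apply_of _ _)).trans ?_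
      refine Eq.trans ?_ (congrArg (P.map g) (FreeAbelianGroup.lift_apply_of (val (op W)) (pt φ)).symm)
      simp only [val]
      rw [show (ev Z).map g (pt φ) = pt ((FormalCoproduct.incl C).map g.unop ≫ φ) from (pt_map g.unop φ).symm,
        unpt_pt, unpt_pt]
      refine Eq.trans ?_ (ConcreteCategory.congr_hom (P.map_comp (φ.φ PUnit.unit).op g) _)
      rfl
    · refine (vproj_toPi P Z _ i).trans ((FreeAbelianGroup.lift_apply_of (val (op (Z.obj i))) _).trans ?_)
      simp only [val, gen]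
      rw [unpt_pt]
      exact ConcreteCategory.congr_hom (P.map_id _) _

lemma toPi_comp {P : Cᵒᵖ ⥤ AddCommGrpCat.{u}} {Z Z' : FormalCoproduct.{u} C} (f : Z ⟶ Z') (α : freeEv Z' ⟶ P) :
    toPi P Z (((Functor.whiskeringRight _ _ _).obj AddCommGrpCat.free.{u}).map (FormalCoproduct.yoneda.map f) ≫ α) =
      ((FormalCoproduct.evalOp.{u} C AddCommGrpCat.{u}).obj P).map f.op (toPi P Z' α) := by
  refine vproj_ext fun i => (vproj_toPi P Z _ i).trans ?_
  refine Eq.trans ?_ (ConcreteCategory.congr_hom (Pi.lift_π (fun i : Z.I =>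
    Pi.π (fun i : Z'.I => P.obj (op (Z'.obj i))) (f.f i) ≫ P.map (f.φ i).op) i) (toPi P Z' α)).symm
  refine Eq.trans ?_ (congrArg (P.map (f.φ i).op) (vproj_toPi P Z' α (f.f i))).symm
  refine (congrArg (α.app _) ((FreeAbelianGroup.map_of_apply (f := (FormalCoproduct.yoneda.map f).app _) (gen Z i)).trans
    (congrArg FreeAbelianGroup.of (pt_comp (FormalCoproduct.Hom.fromIncl i (𝟙 (Z.obj i))) f).symm))).trans ?_
  refine (app_of_pt α _).trans (congrArg (fun k : Z.obj i ⟶ Z'.obj (f.f i) => P.map k.op _) ?_)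
  exact Category.id_comp _

lemma toPi_naturality {P Q : Cᵒᵖ ⥤ AddCommGrpCat.{u}} (t : P ⟶ Q) (Z : FormalCoproduct.{u} C)
    (α : freeEv Z ⟶ P) :
    toPi Q Z (α ≫ t) = ((FormalCoproduct.evalOp.{u} C AddCommGrpCat.{u}).map t).app (op Z) (toPi P Z α) := by
  refine vproj_ext fun i => (vproj_toPi Q Z _ i).trans ?_
  refine Eq.trans ?_ (ConcreteCategory.congr_hom (Pi.map_π (fun i : Z.I => t.app (op (Z.obj i))) i) (toPi P Z α)).symm
  exact (congrArg (t.app _) (vproj_toPi P Z α i)).symm

variable (K : SimplicialObject (FormalCoproduct.{u} C))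

lemma cechCxSite_d (P : Cᵒᵖ ⥤ AddCommGrpCat.{u}) (n : ℕ) (α : freeEv (K _⦋n⦌) ⟶ P) :
    (Hyper.cechCxSite K P).d n (n + 1) (toPi P _ α) = toPi P _ ((chainP (evS K)).d (n + 1) n ≫ α) := by
  let Q := (FormalCoproduct.cosimplicialObjectFunctor K).obj P
  have h : (Hyper.cechCxSite K P).d n (n + 1) = AlternatingCofaceMapComplex.objD Q n := by
    simp [FormalCoproduct.cochainComplexFunctor, alternatingCofaceMapComplex, AlternatingCofaceMapComplex.obj, Q]
  have h' : (chainP (evS K)).d (n + 1) n = ∑ i : Fin (n + 2), (-1 : ℤ) ^ (i : ℕ) • (freeP (evS K)).δ i :=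
    AlternatingFaceMapComplex.obj_d_eq _ n
  rw [h, h', AlternatingCofaceMapComplex.objD]
  let e1 : (Q.obj ⦋n⦌ ⟶ Q.obj ⦋n + 1⦌) →+ piVal P (K _⦋n + 1⦌) :=
    AddMonoidHom.mk' (fun t => t (toPi P _ α)) (fun s t => rfl)
  let e2 : (freeEv (K _⦋n + 1⦌) ⟶ freeEv (K _⦋n⦌)) →+ piVal P (K _⦋n + 1⦌) :=
    AddMonoidHom.mk' (fun t => toPi P _ (t ≫ α)) (fun s t => by rw [Preadditive.add_comp, map_add])
  refine (map_sum e1 _ _).trans (Eq.trans (Finset.sum_congr rfl fun i _ => ?_) (map_sum e2 _ _).symm)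
  refine (map_zsmul e1 _ _).trans (Eq.trans (congrArg (_ • ·) ?_) (map_zsmul e2 _ _).symm)
  exact (toPi_comp (K.δ i) α).symm

variable {J} (F : Sheaf J AddCommGrpCat.{u})

/-- Cochains as morphisms out of the free sheaf. -/
noncomputable def toCech (n : ℕ) : ((chainSh J (evS K)).X n ⟶ F) ≃+ (Hyper.cechCxSite K F.obj).X n :=
  ((sheafificationAdjunction J AddCommGrpCat.{u}).homAddEquiv (freeEv (K _⦋n⦌)) F).trans
    (AddEquiv.ofBijective (toPi F.obj (K _⦋n⦌)) (toPi_bijective _ _))

lemma toCech_eq (n : ℕ) (φ : (chainSh J (evS K)).X n ⟶ F) :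
    toCech K F n φ =
      toPi F.obj (K _⦋n⦌) ((sheafificationAdjunction J AddCommGrpCat.{u}).homEquiv (freeEv (K _⦋n⦌)) F φ) := rfl

lemma d_toCech (n : ℕ) (φ : (chainSh J (evS K)).X n ⟶ F) :
    (Hyper.cechCxSite K F.obj).d n (n + 1) (toCech K F n φ) =
      toCech K F (n + 1) ((chainSh J (evS K)).d (n + 1) n ≫ φ) := by
  refine (congrArg _ (toCech_eq K F n φ)).trans ((cechCxSite_d K F.obj n _).trans ?_)
  refine Eq.trans (congrArg (toPi F.obj (K _⦋n + 1⦌)) ?_) (toCech_eq K F (n + 1) _).symm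
  refine ((sheafificationAdjunction J AddCommGrpCat.{u}).homEquiv_naturality_left _ _).symm.trans ?_
  exact congrArg ((sheafificationAdjunction J AddCommGrpCat.{u}).homEquiv _ F)
    (congrArg (· ≫ φ) (sheafify_chainP_d J (evS K) n))

lemma toCech_naturality {F G : Sheaf J AddCommGrpCat.{u}} (t : F ⟶ G) (n : ℕ)
    (φ : (chainSh J (evS K)).X n ⟶ F) :
    toCech K G n (φ ≫ t) = ((FormalCoproduct.cochainComplexFunctor K).map t.hom).f n (toCech K F n φ) := by
  refine (toCech_eq K G n _).trans ((congrArg (toPi G.obj (K _⦋n⦌))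
    ((sheafificationAdjunction J AddCommGrpCat.{u}).homEquiv_naturality_right φ t)).trans ?_)
  exact (toPi_naturality t.hom _ _).trans (congrArg _ (toCech_eq K F n φ).symm)

/-- Injective sheaves have no higher Čech cohomology. -/
theorem isZero_cechCxSite_homology (hY : IsFillable J (evS K)) (I : Sheaf J AddCommGrpCat.{u}) [Injective I] (p : ℕ) :
    IsZero ((Hyper.cechCxSite K I.obj).homology (p + 1)) := by
  refine HomologicalComplex.ExactAt.isZero_homology ?_
  rw [HomologicalComplex.exactAt_iff' _ p (p + 1) (p + 1 + 1) (by simp) (by simp), ShortComplex.ab_exact_iff]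
  intro c hc
  obtain ⟨φ, rfl⟩ := (toCech K I (p + 1)).surjective c
  have hφ : (chainSh J (evS K)).d (p + 1 + 1) (p + 1) ≫ φ = 0 :=
    (toCech K I (p + 1 + 1)).injective ((d_toCech K I (p + 1) φ).symm.trans (hc.trans (map_zero _).symm))
  have hex := exactAt_chainSh hY p
  rw [HomologicalComplex.exactAt_iff' _ (p + 1 + 1) (p + 1) p (by simp) (by simp)] at hex
  refine ⟨toCech K I p (hex.descToInjective φ hφ), (d_toCech K I p _).trans ?_⟩
  exact congrArg _ (hex.comp_descToInjective φ hφ)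

variable (J)

/-- The constant sheaf of integers. -/
noncomputable abbrev intSh : Sheaf J AddCommGrpCat.{u} :=
  (constantSheaf J AddCommGrpCat.{u}).obj (AddCommGrpCat.of (ULift.{u} ℤ))

/-- The Čech complex functor on sheaves. -/
noncomputable abbrev cechSh : Sheaf J AddCommGrpCat.{u} ⥤ CochainComplex AddCommGrpCat.{u} ℕ :=
  sheafToPresheaf J AddCommGrpCat.{u} ⋙ FormalCoproduct.cochainComplexFunctor K

variable {J}

/-- The augmentation into cochains of degree zero. -/
noncomputable def augCech : (preadditiveCoyoneda.obj (op (intSh J))).obj F ⟶ ((cechSh J K).obj F).X 0 :=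
  AddCommGrpCat.ofHom (AddMonoidHom.mk' (fun φ : intSh J ⟶ F => toCech K F 0 (augSh J (evS K) ≫ φ))
    (fun a b => ((congrArg (toCech K F 0) (Preadditive.comp_add _ _ _ _ a b)).trans (map_add _ _ _))))

lemma augCech_d : augCech K F ≫ ((cechSh J K).obj F).d 0 1 = 0 :=
  AddCommGrpCat.hom_ext (AddMonoidHom.ext fun φ => (d_toCech K F 0 _).trans ((congrArg (toCech K F 1)
    ((Category.assoc _ _ _).symm.trans ((congrArg (· ≫ φ) (d_augSh J (evS K))).trans zero_comp))).trans (map_zero _)))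

lemma exact_augCech (hY : IsFillable J (evS K)) : (ShortComplex.mk _ _ (augCech_d K F)).Exact := by
  rw [ShortComplex.ab_exact_iff]
  intro c hc
  obtain ⟨φ, rfl⟩ := (toCech K F 0).surjective c
  haveI := epi_augSh hY
  have hφ : (chainSh J (evS K)).d 1 0 ≫ φ = 0 :=
    (toCech K F 1).injective ((d_toCech K F 0 φ).symm.trans (hc.trans (map_zero _).symm))
  refine ⟨(exact_augSh hY).gIsCokernel.desc (CokernelCofork.ofπ φ hφ), congrArg (toCech K F 0) ?_⟩
  exact (exact_augSh hY).gIsCokernel.fac _ WalkingParallelPair.one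

lemma mono_augCech (hY : IsFillable J (evS K)) : Mono (augCech K F) := by
  haveI := epi_augSh hY
  rw [AddCommGrpCat.mono_iff_injective]
  exact fun a b h => (cancel_epi (augSh J (evS K))).1 ((toCech K F 0).injective h)

/-- Zeroth Čech cohomology of a fillable covering. -/
noncomputable def homologyZeroIso (hY : IsFillable J (evS K)) :
    (preadditiveCoyoneda.obj (op (intSh J))).obj F ≅ ((cechSh J K).obj F).homology 0 :=
  haveI := mono_augCech K F hY
  IsLimit.conePointUniqueUpToIso (exact_augCech K F hY).fIsKernel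
      (((cechSh J K).obj F).cyclesIsKernel 0 1 (by simp)) ≪≫ CochainComplex.isoHomologyπ₀ _

/-- The natural form of `homologyZeroIso`. -/
noncomputable def hZeroIso (hY : IsFillable J (evS K)) :
    preadditiveCoyoneda.obj (op (intSh J)) ≅
      cechSh J K ⋙ HomologicalComplex.homologyFunctor AddCommGrpCat.{u} (ComplexShape.up ℕ) 0 :=
  NatIso.ofComponents (fun F => homologyZeroIso K F hY) fun {F G} t => by
    haveI := mono_augCech K F hY
    haveI := mono_augCech K G hY
    have hF := IsLimit.conePointUniqueUpToIso_hom_comp (exact_augCech K F hY).fIsKernel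
      (((cechSh J K).obj F).cyclesIsKernel 0 1 (by simp)) WalkingParallelPair.zero
    have hG := IsLimit.conePointUniqueUpToIso_hom_comp (exact_augCech K G hY).fIsKernel
      (((cechSh J K).obj G).cyclesIsKernel 0 1 (by simp)) WalkingParallelPair.zero
    refine ((Category.assoc _ _ _).symm.trans (congrArg (· ≫ ((cechSh J K).obj G).homologyπ 0) ?_)).trans
      ((Category.assoc _ _ _).trans ((congrArg (_ ≫ ·)
        (HomologicalComplex.homologyπ_naturality ((cechSh J K).map t) 0)).symm.trans (Category.assoc _ _ _).symm))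
    refine (cancel_mono (((cechSh J K).obj G).iCycles 0)).1 ?_
    refine ((Category.assoc _ _ _).trans (congrArg (_ ≫ ·) hG)).trans ?_
    refine Eq.trans ?_ (Category.assoc _ _ _).symm
    refine Eq.trans ?_ (congrArg (_ ≫ ·) (HomologicalComplex.cyclesMap_i ((cechSh J K).map t) 0)).symm
    refine Eq.trans ?_ (Category.assoc _ _ _)
    refine Eq.trans ?_ (congrArg (· ≫ ((cechSh J K).map t).f 0) hF).symm
    refine AddCommGrpCat.hom_ext (AddMonoidHom.ext fun φ => ?_)
    exact (congrArg (toCech K G 0) (Category.assoc _ _ _).symm).trans (toCech_naturality K t 0 _)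

end Groth.Agent.HypAcyc
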