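import Mathlib.AlgebraicTopology.SimplicialObject.Basic
import Mathlib.CategoryTheory.Sites.Grothendieck
import Mathlib.GroupTheory.FreeAbelianGroup
import Mathlib.Algebra.BigOperators.Fin
import Mathlib.Data.Fin.VecNotation
import Mathlib.Tactic.Abel
import Mathlib.Algebra.Module.BigOperators

/-!
# Locally fillable simplicial presheaves have locally acyclic free chains
-/

set_option autoImplicit false
set_option linter.style.haveILetI false

open CategoryTheory Opposite Simplicial

namespace Groth.Agent.HypAcyc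

universe u

variable {C : Type u} [SmallCategory C] {J : GrothendieckTopology C}
  (Y : SimplicialObject (Cᵒᵖ ⥤ Type u))

/-- Sections of the degree `n` term. -/
abbrev Sect (n : ℕ) (W : C) : Type u := (Y.obj (op ⦋n⦌)).obj (op W)

variable {Y}

/-- Restriction. -/
noncomputable def rs {n : ℕ} {W V : C} (g : V ⟶ W) (x : Sect Y n W) : Sect Y n V :=
  (Y.obj (op ⦋n⦌)).map g.op x

/-- Faces. -/
noncomputable def face {n : ℕ} {W : C} (i : Fin (n + 2)) (x : Sect Y (n + 1) W) : Sect Y n W :=
  (Y.δ i).app (op W) x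

lemma rs_id {n : ℕ} {W : C} (x : Sect Y n W) : rs (𝟙 W) x = x :=
  ConcreteCategory.congr_hom ((Y.obj (op ⦋n⦌)).map_id (op W)) x

lemma rs_comp {n : ℕ} {W V U : C} (e : U ⟶ V) (g : V ⟶ W) (x : Sect Y n W) :
    rs (e ≫ g) x = rs e (rs g x) :=
  ConcreteCategory.congr_hom ((Y.obj (op ⦋n⦌)).map_comp g.op e.op) x

lemma face_rs {n : ℕ} {W V : C} (g : V ⟶ W) (i : Fin (n + 2)) (x : Sect Y (n + 1) W) :
    face i (rs g x) = rs g (face i x) :=
  ConcreteCategory.congr_hom ((Y.δ i).naturality g.op) x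

lemma face_face {n : ℕ} {W : C} {i j : Fin (n + 2)} (h : i ≤ j) (x : Sect Y (n + 2) W) :
    face i (face j.succ x) = face j (face i.castSucc x) :=
  ConcreteCategory.congr_hom (NatTrans.congr_app (Y.δ_comp_δ h) (op W)) x

/-- Compatibility of a boundary. -/
def Compat : ∀ {n : ℕ} {W : C}, (Fin (n + 2) → Sect Y n W) → Prop
  | 0, _, _ => True
  | _ + 1, _, s => ∀ i j, i ≤ j → face i (s j.succ) = face j (s i.castSucc)

/-- The sieve of local fillings of a boundary. -/
def fillSieve {n : ℕ} {W : C} (s : Fin (n + 2) → Sect Y n W) : Sieve W where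
  arrows V e := ∃ t : Sect Y (n + 1) V, ∀ i, face i t = rs e (s i)
  downward_closed {V U} e := by
    rintro ⟨t, ht⟩ g
    exact ⟨rs g t, fun i => (face_rs g i t).trans ((congrArg (rs g) (ht i)).trans (rs_comp g e (s i)).symm)⟩

/-- The sieve on which there is a vertex. -/
def pointSieve (W : C) : Sieve W where
  arrows V _ := Nonempty (Sect Y 0 V)
  downward_closed {V U} e := by
    rintro ⟨t⟩ g
    exact ⟨rs g t⟩

variable (J Y) in
/-- Locally nonempty with locally fillable boundaries. -/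
structure IsFillable : Prop where
  point (W : C) : pointSieve (Y := Y) W ∈ J W
  fill (n : ℕ) (W : C) (s : Fin (n + 2) → Sect Y n W) : Compat s → fillSieve s ∈ J W

open scoped Classical in
/-- All faces of a finite set of simplices. -/
noncomputable def faces {n : ℕ} {W : C} (T : Finset (Sect Y (n + 1) W)) : Finset (Sect Y n W) :=
  T.biUnion fun x => Finset.univ.image fun i => face i x

lemma face_mem_faces {n : ℕ} {W : C} {T : Finset (Sect Y (n + 1) W)} {x : Sect Y (n + 1) W} (hx : x ∈ T)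
    (i : Fin (n + 2)) : face i x ∈ faces T := by
  classical
  exact Finset.mem_biUnion.2 ⟨x, hx, Finset.mem_image.2 ⟨i, Finset.mem_univ _, rfl⟩⟩

lemma faces_mono {n : ℕ} {W : C} {T T' : Finset (Sect Y (n + 1) W)} (h : T ⊆ T') : faces T ⊆ faces T' := by
  classical
  exact Finset.biUnion_subset_biUnion_of_subset_left _ h

/-- Conditions on a local cone. -/
def Good {W V : C} (g : V ⟶ W) (b : Sect Y 0 V) :
    ∀ n : ℕ, Finset (Sect Y n W) → (∀ k, Sect Y k W → Sect Y (k + 1) V) → Prop
  | 0, T, h => ∀ x ∈ T, face 0 (h 0 x) = rs g x ∧ face 1 (h 0 x) = b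
  | n + 1, T, h => Good g b n (faces T) h ∧ ∀ x ∈ T, face 0 (h (n + 1) x) = rs g x ∧
      ∀ i : Fin (n + 2), face i.succ (h (n + 1) x) = h n (face i x)

lemma Good.mono {W V : C} {g : V ⟶ W} {b : Sect Y 0 V} {h : ∀ k, Sect Y k W → Sect Y (k + 1) V} :
    ∀ {n : ℕ} {T T' : Finset (Sect Y n W)}, T ⊆ T' → Good g b n T' h → Good g b n T h
  | 0, _, _, hT, H => fun x hx => H x (hT hx)
  | _ + 1, _, _, hT, H => ⟨Good.mono (faces_mono hT) H.1, fun x hx => H.2 x (hT hx)⟩

lemma Good.congr {W V : C} {g : V ⟶ W} {b : Sect Y 0 V} {h h' : ∀ k, Sect Y k W → Sect Y (k + 1) V} :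
    ∀ {n : ℕ} {T : Finset (Sect Y n W)}, (∀ k, k ≤ n → h' k = h k) → Good g b n T h → Good g b n T h'
  | 0, _, e, H => fun x hx => by rw [e 0 le_rfl]; exact H x hx
  | n + 1, _, e, H => ⟨Good.congr (fun k hk => e k (hk.trans (Nat.le_succ n))) H.1, fun x hx => by
      rw [e (n + 1) le_rfl, e n (Nat.le_succ n)]; exact H.2 x hx⟩

lemma Good.res {W V U : C} {g : V ⟶ W} (e : U ⟶ V) {b : Sect Y 0 V}
    {h : ∀ k, Sect Y k W → Sect Y (k + 1) V} : ∀ {n : ℕ} {T : Finset (Sect Y n W)}, Good g b n T h →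
      Good (e ≫ g) (rs e b) n T (fun k x => rs e (h k x))
  | 0, _, H => fun x hx =>
      ⟨(face_rs e 0 _).trans ((congrArg (rs e) (H x hx).1).trans (rs_comp e g x).symm),
        (face_rs e 1 _).trans (congrArg (rs e) (H x hx).2)⟩
  | _ + 1, _, H => ⟨Good.res e H.1, fun x hx =>
      ⟨(face_rs e 0 _).trans ((congrArg (rs e) (H.2 x hx).1).trans (rs_comp e g x).symm),
        fun i => (face_rs e i.succ _).trans (congrArg (rs e) ((H.2 x hx).2 i))⟩⟩

/-- The boundary to be filled over a simplex lying over cones of its faces. -/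
lemma Good.compat {W V : C} {g : V ⟶ W} {b : Sect Y 0 V} {h : ∀ k, Sect Y k W → Sect Y (k + 1) V}
    {n : ℕ} {T : Finset (Sect Y (n + 1) W)} (H : Good g b n (faces T) h) {x : Sect Y (n + 1) W} (hx : x ∈ T) :
    Compat (n := n + 1) (Fin.cases (motive := fun _ => Sect Y (n + 1) V) (rs g x) fun k => h n (face k x)) := by
  intro i j hij
  induction i using Fin.cases with
  | zero =>
    simp only [Fin.cases_succ, Fin.castSucc_zero, Fin.cases_zero]
    cases n with
    | zero => exact (H _ (face_mem_faces hx j)).1.trans (face_rs g j x).symm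
    | succ m => exact (H.2 _ (face_mem_faces hx j)).1.trans (face_rs g j x).symm
  | succ i =>
    induction j using Fin.cases with
    | zero => exact absurd hij (by simp [Fin.le_iff_val_le_val])
    | succ j =>
      simp only [Fin.cases_succ, Fin.castSucc_succ]
      cases n with
      | zero =>
        obtain rfl : i = 0 := Subsingleton.elim (α := Fin 1) _ _
        obtain rfl : j = 0 := Subsingleton.elim (α := Fin 1) _ _
        exact (H _ (face_mem_faces hx _)).2.trans (H _ (face_mem_faces hx _)).2.symm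
      | succ m =>
        rw [(H.2 _ (face_mem_faces hx _)).2, (H.2 _ (face_mem_faces hx _)).2]
        exact congrArg (h m) (face_face (Fin.succ_le_succ_iff.1 hij) x)

variable (Y) in
/-- The sieve of arrows with a good cone. -/
def goodSieve {W : C} (n : ℕ) (T : Finset (Sect Y n W)) : Sieve W where
  arrows _ g := ∃ b h, Good g b n T h
  downward_closed {V U} g := by
    rintro ⟨b, h, H⟩ e
    exact ⟨_, _, H.res e⟩

lemma mem_of_forall_finset {α : Type*} {V : C} (T : Finset α) (S : α → Sieve V) (hS : ∀ x ∈ T, S x ∈ J V) :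
    ∃ R ∈ J V, ∀ ⦃U : C⦄ (e : U ⟶ V), R.arrows e → ∀ x ∈ T, (S x).arrows e := by
  classical
  induction T using Finset.induction with
  | empty => exact ⟨⊤, J.top_mem V, fun _ _ _ x hx => absurd hx (Finset.notMem_empty x)⟩
  | insert a T _ ih =>
    obtain ⟨R, hR, hR'⟩ := ih fun x hx => hS x (Finset.mem_insert_of_mem hx)
    refine ⟨S a ⊓ R, J.intersection_covering (hS a (Finset.mem_insert_self _ _)) hR, fun U e he x hx => ?_⟩
    obtain rfl | hx := Finset.mem_insert.1 hx
    · exact he.1
    · exact hR' e he.2 x hx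

theorem goodSieve_mem (hY : IsFillable J Y) : ∀ (n : ℕ) {W : C} (T : Finset (Sect Y n W)), goodSieve Y n T ∈ J W
  | 0, W, T => by
    refine J.transitive (hY.point W) _ fun V g ⟨b⟩ => ?_
    obtain ⟨R, hR, hR'⟩ := mem_of_forall_finset T
      (fun x => fillSieve (![rs g x, b] : Fin 2 → Sect Y 0 V)) (fun x _ => hY.fill 0 V _ trivial)
    refine J.superset_covering (fun U e he => ?_) hR
    classical
    choose t ht using hR' e he
    let d : ∀ k, Sect Y (k + 1) U := fun k => (Y.map (SimplexCategory.const ⦋k + 1⦌ ⦋0⦌ 0).op).app (op U) (rs e b)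
    refine ⟨rs e b, fun k => match k with
      | 0 => fun x => if hx : x ∈ T then t x hx else d 0
      | k + 1 => fun _ => d (k + 1), fun x hx => ?_⟩
    simp only [dif_pos hx]
    exact ⟨(ht x hx 0).trans (rs_comp e g x).symm, ht x hx 1⟩
  | n + 1, W, T => by
    refine J.transitive (goodSieve_mem hY n (faces T)) _ fun V g ⟨b, h, H⟩ => ?_
    obtain ⟨R, hR, hR'⟩ := mem_of_forall_finset T
      (fun x => fillSieve (Fin.cases (motive := fun _ => Sect Y (n + 1) V) (rs g x) fun k => h n (face k x)))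
      (fun x hx => hY.fill _ _ _ (H.compat hx))
    refine J.superset_covering (fun U e he => ?_) hR
    classical
    choose t ht using hR' e he
    let h' : ∀ k, Sect Y k W → Sect Y (k + 1) U := Function.update (fun k x => rs e (h k x)) (n + 1)
      fun x => if hx : x ∈ T then t x hx else rs e (h (n + 1) x)
    have hk : ∀ k, k ≤ n → h' k = fun x => rs e (h k x) := fun k hk =>
      Function.update_of_ne (by omega) _ _
    refine ⟨rs e b, h', (H.res e).congr hk, fun x hx => ?_⟩
    rw [hk n le_rfl, show h' (n + 1) x = t x hx from (congrFun (Function.update_self _ _ _) x).trans (dif_pos hx)]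
    exact ⟨(ht x hx 0).trans (rs_comp e g x).symm, fun i => ht x hx i.succ⟩

/-! ### Chains -/

variable (Y) in
/-- Free chains. -/
abbrev Ch (n : ℕ) (W : C) : Type u := FreeAbelianGroup (Sect Y n W)

/-- Restriction of chains. -/
noncomputable def rsC {n : ℕ} {W V : C} (g : V ⟶ W) : Ch Y n W →+ Ch Y n V := FreeAbelianGroup.map (rs g)

/-- The boundary. -/
noncomputable def bd (n : ℕ) (W : C) : Ch Y (n + 1) W →+ Ch Y n W :=
  ∑ i : Fin (n + 2), (-1 : ℤ) ^ (i : ℕ) • FreeAbelianGroup.map (face i)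

/-- The augmentation. -/
noncomputable def aug (W : C) : Ch Y 0 W →+ ℤ := FreeAbelianGroup.lift fun _ => (1 : ℤ)

/-- Linear extension of a cone. -/
noncomputable def cone {n : ℕ} {W V : C} (h : Sect Y n W → Sect Y (n + 1) V) : Ch Y n W →+ Ch Y (n + 1) V :=
  FreeAbelianGroup.map h

lemma bd_of {n : ℕ} {W : C} (x : Sect Y (n + 1) W) :
    bd n W (FreeAbelianGroup.of x) = ∑ i : Fin (n + 2), (-1 : ℤ) ^ (i : ℕ) • FreeAbelianGroup.of (face i x) := by
  simp [bd, FreeAbelianGroup.map_of_apply]

/-- Decomposition by a cone in degree zero. -/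
lemma exists_cone_zero {W : C} (c : Ch Y 0 W) :
    ∃ T : Finset (Sect Y 0 W), ∀ {V : C} (g : V ⟶ W) (b : Sect Y 0 V) (h : ∀ k, Sect Y k W → Sect Y (k + 1) V),
      Good g b 0 T h → rsC g c = bd 0 V (cone (h 0) c) + aug W c • FreeAbelianGroup.of b := by
  classical
  induction c using FreeAbelianGroup.induction_on with
  | zero => exact ⟨∅, fun g b h _ => by simp⟩
  | of x =>
    refine ⟨{x}, fun g b h H => ?_⟩
    obtain ⟨h0, h1⟩ := H x (Finset.mem_singleton_self x)
    simp [rsC, cone, FreeAbelianGroup.map_of_apply, bd_of, aug, FreeAbelianGroup.lift_apply_of, Fin.sum_univ_two,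
      h0, h1]
  | neg x hx =>
    obtain ⟨T, hT⟩ := hx
    exact ⟨T, fun g b h H => by rw [map_neg, hT g b h H, map_neg, map_neg, map_neg, neg_smul]; abel⟩
  | add x y hx hy =>
    obtain ⟨T, hT⟩ := hx
    obtain ⟨T', hT'⟩ := hy
    refine ⟨T ∪ T', fun g b h H => ?_⟩
    rw [map_add, hT g b h (H.mono Finset.subset_union_left), hT' g b h (H.mono Finset.subset_union_right),
      map_add, map_add, map_add, add_smul]
    abel

/-- Decomposition by a cone in positive degrees. -/
lemma exists_cone_succ {n : ℕ} {W : C} (c : Ch Y (n + 1) W) :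
    ∃ T : Finset (Sect Y (n + 1) W), ∀ {V : C} (g : V ⟶ W) (b : Sect Y 0 V)
      (h : ∀ k, Sect Y k W → Sect Y (k + 1) V), Good g b (n + 1) T h →
        rsC g c = bd (n + 1) V (cone (h (n + 1)) c) + cone (h n) (bd n W c) := by
  classical
  induction c using FreeAbelianGroup.induction_on with
  | zero => exact ⟨∅, fun g b h _ => by simp⟩
  | of x =>
    refine ⟨{x}, fun g b h H => ?_⟩
    obtain ⟨h0, h1⟩ := H.2 x (Finset.mem_singleton_self x)
    simp only [rsC, cone, FreeAbelianGroup.map_of_apply, bd_of]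
    rw [Fin.sum_univ_succ (n := n + 2)]
    simp only [h0, h1, map_sum, map_zsmul, FreeAbelianGroup.map_of_apply, Fin.val_zero, pow_zero, one_smul,
      Fin.val_succ, pow_succ, mul_neg, mul_one, neg_smul, Finset.sum_neg_distrib, neg_add_cancel_right]
  | neg x hx =>
    obtain ⟨T, hT⟩ := hx
    exact ⟨T, fun g b h H => by rw [map_neg, hT g b h H, map_neg, map_neg, map_neg, map_neg]; abel⟩
  | add x y hx hy =>
    obtain ⟨T, hT⟩ := hx
    obtain ⟨T', hT'⟩ := hy
    refine ⟨T ∪ T', fun g b h H => ?_⟩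
    rw [map_add, hT g b h (H.mono Finset.subset_union_left), hT' g b h (H.mono Finset.subset_union_right),
      map_add, map_add, map_add, map_add]
    abel

/-- Cycles in positive degrees are locally boundaries. -/
theorem locally_boundary_succ (hY : IsFillable J Y) {n : ℕ} {W : C} (c : Ch Y (n + 1) W) (hc : bd n W c = 0) :
    ∃ S ∈ J W, ∀ ⦃V : C⦄ (g : V ⟶ W), S.arrows g → ∃ e, bd (n + 1) V e = rsC g c := by
  obtain ⟨T, hT⟩ := exists_cone_succ c
  refine ⟨_, goodSieve_mem hY (n + 1) T, fun V g ⟨b, h, H⟩ => ⟨cone (h (n + 1)) c, ?_⟩⟩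
  rw [hT g b h H, hc, map_zero, add_zero]

/-- Augmentation zero chains are locally boundaries. -/
theorem locally_boundary_zero (hY : IsFillable J Y) {W : C} (c : Ch Y 0 W) (hc : aug W c = 0) :
    ∃ S ∈ J W, ∀ ⦃V : C⦄ (g : V ⟶ W), S.arrows g → ∃ e, bd 0 V e = rsC g c := by
  obtain ⟨T, hT⟩ := exists_cone_zero c
  refine ⟨_, goodSieve_mem hY 0 T, fun V g ⟨b, h, H⟩ => ⟨cone (h 0) c, ?_⟩⟩
  rw [hT g b h H, hc, zero_smul, add_zero]

end Groth.Agent.HypAcyc
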