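import Groth.Agent.HypAcyc.Site
import Mathlib.CategoryTheory.Sites.Over

/-!
# Hypercoverings of an object
-/

set_option autoImplicit false
set_option linter.style.haveILetI false

open CategoryTheory CategoryTheory.Limits Opposite Simplicial

namespace Groth.Agent.HypAcyc

universe u

variable {C : Type u} [SmallCategory C] {J : GrothendieckTopology C}

/-- Coverings of semi-representable objects are locally surjective. -/
lemma homLocSurj_of_isSRCovering {Z Z' : FormalCoproduct.{u} C} {f : Z ⟶ Z'}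
    (hf : Hyper.IsSRCovering J f) : HomLocSurj J f := by
  intro W c
  refine ⟨_, J.pullback_stable (c.φ PUnit.unit) (hf (c.f PUnit.unit)), fun V g hg => ?_⟩
  obtain ⟨_, k, _, ⟨⟨i, hi⟩⟩, hk⟩ := hg
  refine ⟨FormalCoproduct.Hom.fromIncl i k, FormalCoproduct.hom_ext (funext fun _ => hi) fun _ => ?_⟩
  exact (Category.assoc _ _ _).trans hk

/-- Split epimorphisms of semi-representable objects are coverings. -/
lemma isSRCovering_of_section {Z Z' : FormalCoproduct.{u} C} (f : Z ⟶ Z') (s : Z' ⟶ Z) (h : s ≫ f = 𝟙 Z') :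
    Hyper.IsSRCovering J f := by
  intro j
  obtain ⟨h1, h2⟩ := (FormalCoproduct.hom_ext_iff' _ _).1 h j
  refine J.covering_of_eq_top ?_
  rw [← Sieve.id_mem_iff_eq_top]
  refine ⟨_, s.φ j, _, Presieve.ofArrows.mk (⟨s.f j, congrFun (congrArg FormalCoproduct.Hom.f h) j⟩ : {i : Z.I // f.f i = j}), ?_⟩
  exact (Category.assoc _ _ _).symm.trans h2

lemma exists_section_δ (K : SimplicialObject (FormalCoproduct.{u} C)) {n : ℕ} (i : Fin (n + 2)) :
    ∃ s : K _⦋n⦌ ⟶ K _⦋n + 1⦌, s ≫ K.δ i = 𝟙 _ := by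
  induction i using Fin.lastCases with
  | last => exact ⟨K.σ (Fin.last n), (congrArg (_ ≫ K.δ ·) (Fin.succ_last n).symm).trans K.δ_comp_σ_succ⟩
  | cast i => exact ⟨K.σ i, K.δ_comp_σ_self⟩

variable {X : C} (K : SimplicialObject (FormalCoproduct.{u} (Over X)))

/-- The structure maps of the members of every term generate the same sieve as those in degree zero. -/
lemma cover_mem (h : Sieve.ofArrows (fun i => ((K _⦋0⦌).obj i).left) (fun i => ((K _⦋0⦌).obj i).hom) ∈ J X) (n : ℕ) :
    Sieve.ofArrows (fun i => ((K _⦋n⦌).obj i).left) (fun i => ((K _⦋n⦌).obj i).hom) ∈ J X := by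
  refine J.superset_covering ?_ h
  rw [Sieve.ofArrows, Sieve.generate_le_iff]
  rintro V _ ⟨i⟩
  let s : K _⦋0⦌ ⟶ K _⦋n⦌ := K.map (SimplexCategory.const ⦋n⦌ ⦋0⦌ 0).op
  exact ⟨_, (s.φ i).left, _, ⟨s.f i⟩, Over.w (s.φ i)⟩

lemma pointSieve_mem_of_cover
    (h : Sieve.ofArrows (fun i => ((K _⦋0⦌).obj i).left) (fun i => ((K _⦋0⦌).obj i).hom) ∈ J X) (W : Over X) :
    pointSieve (Y := evS K) W ∈ (J.over X) W := by
  rw [GrothendieckTopology.mem_over_iff]
  refine J.superset_covering (fun V g hg => ?_) (J.pullback_stable W.hom h)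
  obtain ⟨_, k, _, ⟨i⟩, hk⟩ := hg
  refine (Sieve.overEquiv_iff _ _).2 ?_
  exact ⟨pt (FormalCoproduct.Hom.fromIncl i (Over.homMk k hk))⟩

variable [∀ (n : ℕ) (F : (SimplexCategory.Truncated n)ᵒᵖ ⥤ FormalCoproduct.{u} (Over X)),
      (SimplexCategory.Truncated.inclusion n).op.HasRightKanExtension F] {K}

lemma homLocSurj_unit (hK : Hyper.IsHypercovering J X K) (n : ℕ) :
    HomLocSurj (J.over X) (((SimplicialObject.coskAdj n).unit.app K).app (op ⦋n + 1⦌)) :=
  homLocSurj_of_isSRCovering (hK.2 n)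

/-- Hypercoverings of an object are fillable. -/
theorem isFillable_of_isHypercovering (hK : Hyper.IsHypercovering J X K) : IsFillable (J.over X) (evS K) where
  point W := pointSieve_mem_of_cover K hK.1 W
  fill n _ s hs := fillSieve_mem_of_homLocSurj (homLocSurj_unit hK n) s hs

/-- Hypercoverings of an object are hypercoverings of the final object of the localised site. -/
theorem isHypercoveringSite_of_isHypercovering (hK : Hyper.IsHypercovering J X K) :
    Hyper.IsHypercoveringSite (J.over X) K := by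
  refine ⟨⟨fun {W} s => (J.over X).superset_covering (pointSieve_le s) (pointSieve_mem_of_cover K hK.1 W)⟩, ?_,
    fun n _ => (homLocSurj_iff _).1 (homLocSurj_unit hK n)⟩
  refine ⟨fun {W} z => ?_⟩
  let P := ev (K _⦋0⦌)
  refine (J.over X).superset_covering ?_ ((isFillable_of_isHypercovering hK).fill 0 W
    ![(prod.snd : P ⨯ P ⟶ P).app (op W) z, (prod.fst : P ⨯ P ⟶ P).app (op W) z] trivial)
  rintro V g ⟨t, ht⟩
  refine ⟨t, yonedaEquiv.symm.injective (prod.hom_ext ?_ ?_)⟩
  · refine yonedaEquiv.injective (((yonedaEquiv_comp _ _).trans ?_).trans (yonedaEquiv_comp _ _).symm)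
    rw [Equiv.apply_symm_apply, Equiv.apply_symm_apply]
    refine Eq.trans ?_ (ConcreteCategory.congr_hom ((prod.fst : P ⨯ P ⟶ P).naturality g.op) z).symm
    exact (ConcreteCategory.congr_hom (NatTrans.congr_app (prod.lift_fst (FormalCoproduct.yoneda.map (K.δ (1 : Fin 2)))
      (FormalCoproduct.yoneda.map (K.δ (0 : Fin 2)))) (op V)) t).trans (ht 1)
  · refine yonedaEquiv.injective (((yonedaEquiv_comp _ _).trans ?_).trans (yonedaEquiv_comp _ _).symm)
    rw [Equiv.apply_symm_apply, Equiv.apply_symm_apply]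
    refine Eq.trans ?_ (ConcreteCategory.congr_hom ((prod.snd : P ⨯ P ⟶ P).naturality g.op) z).symm
    exact (ConcreteCategory.congr_hom (NatTrans.congr_app (prod.lift_snd (FormalCoproduct.yoneda.map (K.δ (1 : Fin 2)))
      (FormalCoproduct.yoneda.map (K.δ (0 : Fin 2)))) (op V)) t).trans (ht 0)

end Groth.Agent.HypAcyc
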