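import Groth.Agent.HypAcyc.ExactCech
import Groth.Agent.SSExist.CechSite
import Groth.Agent.SSExist.OverInj
import Groth.Agent.SSExist.Wrap
import Groth.Prelude.Def_SpSeq
import Mathlib.Algebra.Category.Grp.ForgetCorepresentable
import Mathlib.CategoryTheory.Sites.SheafCohomology.Basic
import Mathlib.CategoryTheory.Sites.Over

/-!
# The spectral sequence of a hypercovering
-/

set_option autoImplicit false
set_option linter.style.haveILetI false

open CategoryTheory CategoryTheory.Limits Opposite Simplicial CategoryTheory.Abelian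

namespace Groth.Agent.HypAcyc

universe u

variable {C : Type u} [SmallCategory C] {J : GrothendieckTopology C} (K : SimplicialObject (FormalCoproduct.{u} C))

/-- Morphisms out of the constant sheaf are compatible families. -/
noncomputable def limEquiv (F : Sheaf J AddCommGrpCat.{u}) : (intSh J ⟶ F) ≃+ (limit F.obj : AddCommGrpCat.{u}) :=
  haveI : (Functor.const Cᵒᵖ : AddCommGrpCat.{u} ⥤ Cᵒᵖ ⥤ AddCommGrpCat.{u}).Additive := { map_add := rfl }
  (((sheafificationAdjunction J AddCommGrpCat.{u}).homAddEquiv _ F).trans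
    ((constLimAdj (J := Cᵒᵖ) (C := AddCommGrpCat.{u})).homAddEquiv _ F.obj)).trans
    (AddCommGrpCat.uliftZMultiplesAddEquiv _)

theorem nonempty_homology_zero_limit (hY : IsFillable J (evS K)) (F : Sheaf J AddCommGrpCat.{u}) :
    Nonempty ((Hyper.cechCxSite K F.obj).homology 0 ≅ limit F.obj) :=
  ⟨(homologyZeroIso K F hY).symm ≪≫
    AddEquiv.toAddCommGrpIso (X := (preadditiveCoyoneda.obj (op (intSh J))).obj F) (limEquiv F)⟩

/-- The spectral sequence of a fillable covering of the final object. -/
theorem exists_cechSS (hY : IsFillable J (evS K)) (F : Sheaf J AddCommGrpCat.{u}) (Z : AddCommGrpCat.{u})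
    (hZ : IsZero Z) :
    ∃ (E : E₂CohomologicalSpectralSequence AddCommGrpCat.{u})
      (a : SpSeq.Abutment E (fun n : ℤ => if 0 ≤ n then AddCommGrpCat.of (Sheaf.H F n.toNat) else Z)),
      (∀ n, a.IsFinite n) ∧ SpSeq.IsBounded E ∧
      ∀ p q : ℤ, Nonempty ((E.page 2 le_rfl).X (p, q) ≅
        (if 0 ≤ p ∧ 0 ≤ q then (Hyper.cechCxSite K (Sheaf.cohomologyPresheaf F q.toNat)).homology p.toNat else Z)) := by
  haveI := SSExist.preservesFiniteLimits_hZero _ (isEffaceable_id.{u})
  haveI : (cechSh J K).Additive := inferInstance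
  refine SSExist.exists_grothendieck' (cechSh J K) (SSExist.hZero (𝟭 (CochainComplex AddCommGrpCat.{u} ℕ)))
    (fun Q hQ q hq => ?_) F Z hZ (fun n => AddCommGrpCat.of (Sheaf.H F n)) (fun n => ?_)
    (fun p q => (Hyper.cechCxSite K (Sheaf.cohomologyPresheaf F q)).homology p) (fun p q => ?_)
  · obtain ⟨e⟩ := SSExist.nonempty_rightDerived_hZero_iso _ isEffaceable_id.{u} q ((cechSh J K).obj Q)
    obtain ⟨m, rfl⟩ : ∃ m, q = m + 1 := ⟨q - 1, by omega⟩
    haveI := hQ
    exact IsZero.of_iso (isZero_cechCxSite_homology K hY Q m) e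
  · exact SSExist.nonempty_ext_iso_rightDerived _ (intSh J) (hZeroIso K hY).symm F n
  · obtain ⟨e⟩ := SSExist.nonempty_rightDerived_of_exact (cechSh J K) (cechPre K) (Iso.refl _) F q
    obtain ⟨e'⟩ := SSExist.nonempty_rightDerived_hZero_iso _ isEffaceable_id.{u} p
      ((cechPre K).obj (Sheaf.cohomologyPresheaf F q))
    exact ⟨e'.symm ≪≫ ((SSExist.hZero (𝟭 _)).rightDerived p).mapIso e.symm⟩

end Groth.Agent.HypAcyc

namespace Groth.Agent.HypAcyc

universe u

variable {C : Type u} [SmallCategory C] {J : GrothendieckTopology C} {X : C}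
  (K : SimplicialObject (FormalCoproduct.{u} (Over X)))

/-- Restriction to an object. -/
noncomputable abbrev restrOver (J : GrothendieckTopology C) (X : C) :
    Sheaf J AddCommGrpCat.{u} ⥤ Sheaf (J.over X) AddCommGrpCat.{u} :=
  CohSite.push J (J.over X) (Over.forget X)

/-- The Čech complex functor over an object. -/
noncomputable abbrev cechOver (J : GrothendieckTopology C) {X : C}
    (K : SimplicialObject (FormalCoproduct.{u} (Over X))) :
    Sheaf J AddCommGrpCat.{u} ⥤ CochainComplex AddCommGrpCat.{u} ℕ :=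
  restrOver J X ⋙ cechSh (J.over X) K

/-- Morphisms out of the constant sheaf over an object are sections. -/
noncomputable def overIntEquiv (J : GrothendieckTopology C) (X : C) (F : Sheaf J AddCommGrpCat.{u}) :
    (intSh (J.over X) ⟶ (restrOver J X).obj F) ≃+ F.obj.obj (op X) :=
  haveI : ((sheafSections (J.over X) AddCommGrpCat.{u}).obj (op (Over.mk (𝟙 X)))).Additive := { map_add := rfl }
  haveI : (constantSheaf (J.over X) AddCommGrpCat.{u}).Additive :=
    (constantSheafAdj (J.over X) AddCommGrpCat.{u} (Over.mkIdTerminal (X := X))).left_adjoint_additive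
  ((constantSheafAdj (J.over X) AddCommGrpCat.{u} (Over.mkIdTerminal (X := X))).homAddEquiv _ _).trans
    (AddCommGrpCat.uliftZMultiplesAddEquiv _)

lemma overIntEquiv_naturality {F G : Sheaf J AddCommGrpCat.{u}} (t : F ⟶ G)
    (φ : intSh (J.over X) ⟶ (restrOver J X).obj F) :
    overIntEquiv J X G (φ ≫ (restrOver J X).map t) = t.hom.app (op X) (overIntEquiv J X F φ) :=
  ConcreteCategory.congr_hom ((constantSheafAdj (J.over X) AddCommGrpCat.{u}
    (Over.mkIdTerminal (X := X))).homEquiv_naturality_right φ ((restrOver J X).map t)) _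

/-- Morphisms out of free and constant sheaves agree. -/
noncomputable def overCoyIso (J : GrothendieckTopology C) (X : C) :
    preadditiveCoyoneda.obj (op (SSExist.freeAb J X)) ≅
      restrOver J X ⋙ preadditiveCoyoneda.obj (op (intSh (J.over X))) :=
  NatIso.ofComponents (fun F => AddEquiv.toAddCommGrpIso
    (X := (preadditiveCoyoneda.obj (op (SSExist.freeAb J X))).obj F)
    (Y := (restrOver J X ⋙ preadditiveCoyoneda.obj (op (intSh (J.over X)))).obj F)
    ((AddEquiv.ofBijective (SSExist.evalGen J X F) (SSExist.evalGen_bijective J X F)).trans (overIntEquiv J X F).symm))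
    fun {F G} t => AddCommGrpCat.hom_ext (AddMonoidHom.ext fun φ => by
      refine (overIntEquiv J X G).injective (((overIntEquiv J X G).apply_symm_apply _).trans ?_)
      refine Eq.trans ?_ (overIntEquiv_naturality t _).symm
      exact (congrArg (t.hom.app (op X)) ((overIntEquiv J X F).apply_symm_apply _)).symm)

/-- Sections as zeroth Čech cohomology. -/
noncomputable def cechOverCoyIso (hY : IsFillable (J.over X) (evS K)) :
    preadditiveCoyoneda.obj (op (SSExist.freeAb J X)) ≅ SSExist.hZero (cechOver J K) :=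
  overCoyIso J X ≪≫ Functor.isoWhiskerLeft (restrOver J X) (hZeroIso K hY)

theorem nonempty_cechH_zero (hY : IsFillable (J.over X) (evS K)) (F : Sheaf J AddCommGrpCat.{u}) :
    Nonempty (Hyper.cechH X K F.obj 0 ≅ F.obj.obj (op X)) :=
  ⟨((cechOverCoyIso K hY).app F).symm ≪≫ AddEquiv.toAddCommGrpIso
    (X := (preadditiveCoyoneda.obj (op (SSExist.freeAb J X))).obj F)
    (AddEquiv.ofBijective (SSExist.evalGen J X F) (SSExist.evalGen_bijective J X F))⟩

theorem isZero_cechH (hY : IsFillable (J.over X) (evS K)) (I : Sheaf J AddCommGrpCat.{u}) [Injective I] (p : ℕ) :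
    IsZero (Hyper.cechH X K I.obj (p + 1)) :=
  haveI := SSExist.injective_restrictOver J X I
  isZero_cechCxSite_homology K hY ((restrOver J X).obj I) p

theorem cechOver_shortExact {S : ShortComplex (Sheaf J AddCommGrpCat.{u})} (hS : S.ShortExact)
    (h : ∀ V : C, Function.Surjective (S.g.hom.app (op V))) : (S.map (cechOver J K)).ShortExact := by
  haveI := hS.mono_f
  have hT : (S.map (sheafToPresheaf J AddCommGrpCat.{u})).ShortExact :=
    { exact := hS.exact.map_of_mono_of_preservesKernel (sheafToPresheaf J AddCommGrpCat.{u}) hS.mono_f inferInstance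
      mono_f := (sheafToPresheaf J AddCommGrpCat.{u}).map_mono S.f
      epi_g := by
        haveI : ∀ V, Epi ((S.map (sheafToPresheaf J AddCommGrpCat.{u})).g.app V) := fun V =>
          (AddCommGrpCat.epi_iff_surjective _).2 (h V.unop)
        exact NatTrans.epi_of_epi_app _ }
  exact cechPre_shortExact K (hT.map_of_exact
    ((Functor.whiskeringLeft (Over X)ᵒᵖ Cᵒᵖ AddCommGrpCat.{u}).obj (Over.forget X).op))

/-- Čech cohomology of a hypercovering for totally acyclic sheaves vanishes. -/
theorem isZero_cechH_of_acyclic (hY : IsFillable (J.over X) (evS K)) (F : Sheaf J AddCommGrpCat.{u})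
    (hF : ∀ (U : C) (q : ℕ), Subsingleton (Ext.{u} (SSExist.freeAb J U) F (q + 1))) (p : ℕ) :
    IsZero (Hyper.cechH X K F.obj (p + 1)) := by
  haveI : PreservesFiniteLimits (SSExist.hZero (cechOver J K)) :=
    preservesFiniteLimits_of_natIso (cechOverCoyIso K hY)
  obtain ⟨e⟩ := SSExist.nonempty_rightDerived_hZero_iso_of_class (cechOver J K)
    (fun I hI n => haveI := hI; isZero_cechH K hY I n)
    (fun G => ∀ (U : C) (q : ℕ), Subsingleton (Ext.{u} (SSExist.freeAb J U) G (q + 1)))
    (fun S hS h₁ hI => by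
      haveI := hI
      refine ⟨fun U q => subsingleton_of_forall_eq 0 fun z => ?_, cechOver_shortExact K hS fun V t => ?_⟩
      · haveI := h₁ U (q + 1)
        obtain ⟨w, rfl⟩ := Ext.covariant_sequence_exact₃ _ hS z rfl (Subsingleton.elim _ _)
        rw [Ext.eq_zero_of_injective w, Ext.zero_comp]
      · haveI := h₁ V 0
        obtain ⟨φ, rfl⟩ := (SSExist.evalGen_bijective J V S.X₃).2 t
        obtain ⟨ψ, rfl⟩ := SSExist.exists_lift_of_subsingleton hS _ φ
        exact ⟨SSExist.evalGen J V S.X₂ ψ, rfl⟩) (p + 1) F hF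
  obtain ⟨e'⟩ := SSExist.nonempty_ext_iso_rightDerived (SSExist.hZero (cechOver J K)) (SSExist.freeAb J X)
    (cechOverCoyIso K hY).symm F (p + 1)
  haveI := hF X p
  exact IsZero.of_iso (AddCommGrpCat.isZero_of_subsingleton _) (e.symm ≪≫ e'.symm)

end Groth.Agent.HypAcyc
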