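import Groth.Agent.HypAcyc.Fill
import Mathlib.AlgebraicTopology.AlternatingFaceMapComplex
import Mathlib.Algebra.Category.Grp.Adjunctions
import Mathlib.Algebra.Category.Grp.Abelian
import Mathlib.Algebra.Homology.ShortComplex.PreservesHomology
import Mathlib.Algebra.Homology.ShortComplex.Ab
import Mathlib.CategoryTheory.Sites.LocallySurjective
import Mathlib.CategoryTheory.Sites.EpiMono
import Mathlib.Algebra.Category.Grp.AB
import Mathlib.CategoryTheory.Sites.ConstantSheaf
import Groth.Prelude.Def_CohSite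

/-!
# The sheafified free chain complex of a fillable simplicial presheaf
-/

set_option autoImplicit false
set_option linter.style.haveILetI false

open CategoryTheory CategoryTheory.Limits Opposite Simplicial AlgebraicTopology

namespace Groth.Agent.HypAcyc

universe u

variable {C : Type u} [SmallCategory C] (J : GrothendieckTopology C)

/-- Sheafification of a short complex with locally vanishing homology is exact. -/
theorem exact_sheafify_of_locally (S : ShortComplex (Cᵒᵖ ⥤ AddCommGrpCat.{u}))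
    (h : ∀ (W : C) (c : S.X₂.obj (op W)), S.g.app (op W) c = 0 →
      ∃ R ∈ J W, ∀ ⦃V : C⦄ (g : V ⟶ W), R.arrows g → ∃ e, S.f.app (op V) e = S.X₂.map g.op c) :
    (S.map (presheafToSheaf J AddCommGrpCat.{u})).Exact := by
  have hmono : ∀ V, Function.Injective (S.iCycles.app V) := fun V =>
    (AddCommGrpCat.mono_iff_injective _).1 inferInstance
  haveI : Presheaf.IsLocallySurjective J S.toCycles := by
    refine ⟨fun {W} s => ?_⟩
    obtain ⟨R, hR, hR'⟩ := h W (S.iCycles.app (op W) s)
      ((ConcreteCategory.congr_hom (NatTrans.congr_app S.iCycles_g (op W)) s).trans (by rfl))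
    refine J.superset_covering (fun V g hg => ?_) hR
    obtain ⟨e, he⟩ := hR' g hg
    refine ⟨e, hmono _ ?_⟩
    exact (ConcreteCategory.congr_hom (NatTrans.congr_app S.toCycles_i (op V)) e).trans
      (he.trans (ConcreteCategory.congr_hom (S.iCycles.naturality g.op) s).symm)
  haveI hE : Epi ((presheafToSheaf J AddCommGrpCat.{u}).map S.toCycles) :=
    (Sheaf.isLocallySurjective_iff_epi' AddCommGrpCat.{u} _).1
      ((Presheaf.isLocallySurjective_presheafToSheaf_map_iff J S.toCycles).2 inferInstance)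
  rw [ShortComplex.exact_iff_epi_toCycles]
  have e : (S.map (presheafToSheaf J AddCommGrpCat.{u})).toCycles =
      (presheafToSheaf J AddCommGrpCat.{u}).map S.toCycles ≫ (S.mapCyclesIso (presheafToSheaf J AddCommGrpCat.{u})).inv := by
    refine (cancel_mono (S.map (presheafToSheaf J AddCommGrpCat.{u})).iCycles).1 ((ShortComplex.toCycles_i _).trans ?_)
    refine Eq.trans ?_ (Category.assoc _ _ _).symm
    refine Eq.trans ?_ (congrArg ((presheafToSheaf J AddCommGrpCat.{u}).map S.toCycles ≫ ·)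
      ((Iso.eq_inv_comp _).2 (S.mapCyclesIso_hom_iCycles (presheafToSheaf J AddCommGrpCat.{u}))))
    exact (congrArg (presheafToSheaf J AddCommGrpCat.{u}).map S.toCycles_i.symm).trans (Functor.map_comp _ _ _)
  rw [e]
  exact @epi_comp _ _ _ _ _ _ hE _ inferInstance

theorem exact_of_locally {A B D : Cᵒᵖ ⥤ AddCommGrpCat.{u}} (f : A ⟶ B) (g : B ⟶ D) (w : f ≫ g = 0)
    {f' : (presheafToSheaf J AddCommGrpCat.{u}).obj A ⟶ (presheafToSheaf J AddCommGrpCat.{u}).obj B}
    {g' : (presheafToSheaf J AddCommGrpCat.{u}).obj B ⟶ (presheafToSheaf J AddCommGrpCat.{u}).obj D}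
    (hf : (presheafToSheaf J AddCommGrpCat.{u}).map f = f') (hg : (presheafToSheaf J AddCommGrpCat.{u}).map g = g')
    (w' : f' ≫ g' = 0) (h : ∀ (W : C) (c : B.obj (op W)), g.app (op W) c = 0 →
      ∃ R ∈ J W, ∀ ⦃V : C⦄ (k : V ⟶ W), R.arrows k → ∃ e, f.app (op V) e = B.map k.op c) :
    (ShortComplex.mk f' g' w').Exact := by
  subst hf hg
  exact exact_sheafify_of_locally J (ShortComplex.mk f g w) h

variable (Y : SimplicialObject (Cᵒᵖ ⥤ Type u))

/-- The free abelian simplicial presheaf. -/
noncomputable abbrev freeP : SimplicialObject (Cᵒᵖ ⥤ AddCommGrpCat.{u}) :=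
  Y ⋙ (Functor.whiskeringRight _ _ _).obj AddCommGrpCat.free.{u}

/-- The free abelian simplicial sheaf. -/
noncomputable abbrev freeSh : SimplicialObject (Sheaf J AddCommGrpCat.{u}) :=
  freeP Y ⋙ presheafToSheaf J AddCommGrpCat.{u}

/-- The chain complex of presheaves. -/
noncomputable abbrev chainP : ChainComplex (Cᵒᵖ ⥤ AddCommGrpCat.{u}) ℕ :=
  (alternatingFaceMapComplex _).obj (freeP Y)

/-- The chain complex of sheaves. -/
noncomputable abbrev chainSh : ChainComplex (Sheaf J AddCommGrpCat.{u}) ℕ :=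
  (alternatingFaceMapComplex _).obj (freeSh J Y)

lemma chainP_d_app (n : ℕ) (W : C) (c : Ch Y (n + 1) W) :
    ((chainP Y).d (n + 1) n).app (op W) c = bd n W c := by
  have h : (chainP Y).d (n + 1) n = ∑ i : Fin (n + 2), (-1 : ℤ) ^ (i : ℕ) • (freeP Y).δ i :=
    AlternatingFaceMapComplex.obj_d_eq _ n
  let ev : ((chainP Y).X (n + 1) ⟶ (chainP Y).X n) →+ Ch Y n W :=
    AddMonoidHom.mk' (fun t => t.app (op W) c) (fun s t => rfl)
  refine (congrArg ev h).trans ?_
  rw [map_sum, bd, AddMonoidHom.finset_sum_apply]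
  refine Finset.sum_congr rfl fun i _ => ?_
  rw [map_zsmul, AddMonoidHom.smul_apply]
  rfl

lemma sheafify_chainP_d (n : ℕ) :
    (presheafToSheaf J AddCommGrpCat.{u}).map ((chainP Y).d (n + 1) n) = (chainSh J Y).d (n + 1) n := by
  refine ((congrArg (presheafToSheaf J AddCommGrpCat.{u}).map (AlternatingFaceMapComplex.obj_d_eq (freeP Y) n)).trans
    ((presheafToSheaf J AddCommGrpCat.{u}).map_sum _ _)).trans ?_
  refine (Finset.sum_congr rfl fun i _ => Functor.map_zsmul _).trans ?_
  exact (AlternatingFaceMapComplex.obj_d_eq (freeSh J Y) n).symm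

/-- The constant presheaf of integers. -/
noncomputable abbrev intP : Cᵒᵖ ⥤ AddCommGrpCat.{u} := (Functor.const Cᵒᵖ).obj (AddCommGrpCat.of (ULift.{u} ℤ))

/-- The augmentation of free chains. -/
noncomputable def augP : (chainP Y).X 0 ⟶ intP (C := C) where
  app W := AddCommGrpCat.ofHom (AddEquiv.ulift.symm.toAddMonoidHom.comp (aug (Y := Y) W.unop))
  naturality V W g := by
    refine AddCommGrpCat.hom_ext (FreeAbelianGroup.lift_ext _ _ fun x => ?_)
    refine congrArg (fun k : ℤ => (⟨k⟩ : ULift.{u} ℤ)) ?_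
    exact ((congrArg (aug (Y := Y) W.unop) (FreeAbelianGroup.map_of_apply (f := (Y.obj (op ⦋0⦌)).map g) x)).trans
      (FreeAbelianGroup.lift_apply_of _ _)).trans (FreeAbelianGroup.lift_apply_of (fun _ => (1 : ℤ)) x).symm

lemma augP_app (W : C) (c : Ch Y 0 W) : ((augP Y).app (op W) c : ULift.{u} ℤ) = ⟨aug W c⟩ := rfl

lemma d_augP : (chainP Y).d 1 0 ≫ augP Y = 0 := by
  refine NatTrans.ext (funext fun W => AddCommGrpCat.hom_ext (FreeAbelianGroup.lift_ext _ _ fun x => ?_))
  refine (congrArg ((augP Y).app W) (chainP_d_app Y 0 W.unop (FreeAbelianGroup.of x))).trans ?_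
  refine (augP_app Y W.unop _).trans (congrArg ULift.up ?_)
  simp [bd_of, aug, Fin.sum_univ_two, FreeAbelianGroup.lift_apply_of]

variable {J Y}

/-- Homology sheaves vanish in positive degrees. -/
theorem exactAt_chainSh (hY : IsFillable J Y) (n : ℕ) : (chainSh J Y).ExactAt (n + 1) := by
  rw [HomologicalComplex.exactAt_iff' _ (n + 1 + 1) (n + 1) n (by simp) (by simp)]
  refine exact_of_locally J ((chainP Y).d (n + 1 + 1) (n + 1)) ((chainP Y).d (n + 1) n)
    ((chainP Y).d_comp_d _ _ _) (sheafify_chainP_d J Y (n + 1)) (sheafify_chainP_d J Y n) _ fun W c hc => ?_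
  obtain ⟨R, hR, hR'⟩ := locally_boundary_succ hY c ((chainP_d_app Y n W c).symm.trans hc)
  exact ⟨R, hR, fun V g hg => (hR' g hg).imp fun e he => (chainP_d_app Y (n + 1) V e).trans he⟩

theorem isZero_homology_chainSh (hY : IsFillable J Y) (n : ℕ) : IsZero ((chainSh J Y).homology (n + 1)) :=
  (exactAt_chainSh hY n).isZero_homology

variable (J Y) in
/-- The augmentation of the sheafified chains. -/
noncomputable def augSh : (chainSh J Y).X 0 ⟶ (constantSheaf J AddCommGrpCat.{u}).obj (AddCommGrpCat.of (ULift.{u} ℤ)) :=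
  (presheafToSheaf J AddCommGrpCat.{u}).map (augP Y)

variable (J Y) in
lemma d_augSh : (chainSh J Y).d 1 0 ≫ augSh J Y = 0 := by
  refine (congrArg (· ≫ augSh J Y) (sheafify_chainP_d J Y 0).symm).trans ?_
  exact ((presheafToSheaf J AddCommGrpCat.{u}).map_comp _ _).symm.trans
    ((congrArg _ (d_augP Y)).trans (Functor.map_zero _ _ _))

theorem epi_augSh (hY : IsFillable J Y) : Epi (augSh J Y) := by
  haveI : Presheaf.IsLocallySurjective J (augP Y) := ⟨fun {W} s => by
    refine J.superset_covering (fun V g hg => ?_) (hY.point W)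
    obtain ⟨y⟩ := hg
    refine ⟨(show ℤ from s.down) • FreeAbelianGroup.of y, (augP_app Y V _).trans ?_⟩
    show (⟨_⟩ : ULift.{u} ℤ) = s
    simp [aug, FreeAbelianGroup.lift_apply_of]
    rfl⟩
  exact (Sheaf.isLocallySurjective_iff_epi' AddCommGrpCat.{u} _).1
    ((Presheaf.isLocallySurjective_presheafToSheaf_map_iff J (augP Y)).2 inferInstance)

theorem exact_augSh (hY : IsFillable J Y) : (ShortComplex.mk _ _ (d_augSh J Y)).Exact := by
  refine exact_of_locally J ((chainP Y).d 1 0) (augP Y) (d_augP Y) (sheafify_chainP_d J Y 0) rfl (d_augSh J Y)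
    fun W c hc => ?_
  obtain ⟨R, hR, hR'⟩ := locally_boundary_zero hY c (congrArg ULift.down ((augP_app Y W c).symm.trans hc))
  exact ⟨R, hR, fun V g hg => (hR' g hg).imp fun e he => (chainP_d_app Y 0 V e).trans he⟩

/-- The zeroth homology sheaf is the constant sheaf. -/
theorem nonempty_homology_zero_iso (hY : IsFillable J Y) :
    Nonempty ((chainSh J Y).homology 0 ≅ (constantSheaf J AddCommGrpCat.{u}).obj (AddCommGrpCat.of (ULift.{u} ℤ))) := by
  haveI := epi_augSh hY
  exact ⟨ChainComplex.isoHomologyι₀ _ ≪≫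
    IsColimit.coconePointUniqueUpToIso ((chainSh J Y).opcyclesIsCokernel 1 0 (by simp)) (exact_augSh hY).gIsCokernel⟩

end Groth.Agent.HypAcyc
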