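import Groth.Agent.HypAcyc.Sheaf
import Groth.Prelude.Def_Hyper
import Mathlib.AlgebraicTopology.SimplexCategory.Basic
import Mathlib.CategoryTheory.Limits.FunctorCategory.Basic
import Mathlib.CategoryTheory.Limits.Types.Colimits
import Mathlib.AlgebraicTopology.SimplicialSet.StdSimplex

/-!
# Hypercoverings of the final object are fillable
-/

set_option autoImplicit false
set_option linter.style.haveILetI false

open CategoryTheory CategoryTheory.Limits Opposite Simplicial

namespace Groth.Agent.HypAcyc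

universe u

variable {C : Type u} [SmallCategory C] {J : GrothendieckTopology C}

/-- The single object formal coproduct. -/
abbrev single (W : C) : FormalCoproduct.{u} C := (FormalCoproduct.incl C).obj W

/-- The coproduct of representables. -/
noncomputable abbrev ev (Z : FormalCoproduct.{u} C) : Cᵒᵖ ⥤ Type u := FormalCoproduct.yoneda.obj Z

/-- The section of a coproduct of representables defined by a map from a single object. -/
noncomputable def pt {W : C} {Z : FormalCoproduct.{u} C} (φ : single W ⟶ Z) : (ev Z).obj (op W) :=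
  (Sigma.ι (fun i => yoneda.obj (Z.obj i)) (φ.f PUnit.unit)).app (op W) (φ.φ PUnit.unit)

lemma pt_comp {W : C} {Z Z' : FormalCoproduct.{u} C} (φ : single W ⟶ Z) (ψ : Z ⟶ Z') :
    pt (φ ≫ ψ) = (FormalCoproduct.yoneda.map ψ).app (op W) (pt φ) :=
  (ConcreteCategory.congr_hom (NatTrans.congr_app
    (Sigma.ι_desc (f := fun i => yoneda.obj (Z.obj i))
      (fun i => yoneda.map (ψ.φ i) ≫ Sigma.ι (fun j => yoneda.obj (Z'.obj j)) (ψ.f i)) (φ.f PUnit.unit)) (op W))
    (φ.φ PUnit.unit)).symm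

lemma pt_map {V W : C} {Z : FormalCoproduct.{u} C} (g : V ⟶ W) (φ : single W ⟶ Z) :
    pt ((FormalCoproduct.incl C).map g ≫ φ) = (ev Z).map g.op (pt φ) :=
  ConcreteCategory.congr_hom ((Sigma.ι (fun i => yoneda.obj (Z.obj i)) (φ.f PUnit.unit)).naturality g.op)
    (φ.φ PUnit.unit)

/-- Maps from single objects as a presheaf. -/
noncomputable abbrev homP (Z : FormalCoproduct.{u} C) : Cᵒᵖ ⥤ Type u :=
  (FormalCoproduct.incl C).op ⋙ yoneda.obj Z

/-- The inverse of `pt`. -/
noncomputable def unpt (Z : FormalCoproduct.{u} C) : ev Z ⟶ homP Z :=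
  Sigma.desc fun i => (yonedaEquiv (F := homP Z)).symm (FormalCoproduct.Hom.fromIncl i (𝟙 (Z.obj i)))

lemma unpt_pt {W : C} {Z : FormalCoproduct.{u} C} (φ : single W ⟶ Z) : (unpt Z).app (op W) (pt φ) = φ := by
  refine (ConcreteCategory.congr_hom (NatTrans.congr_app (Sigma.ι_desc (f := fun i => yoneda.obj (Z.obj i))
    (fun i => (yonedaEquiv (F := homP Z)).symm (FormalCoproduct.Hom.fromIncl i (𝟙 (Z.obj i))))
    (φ.f PUnit.unit)) (op W)) (φ.φ PUnit.unit)).trans ?_
  refine FormalCoproduct.hom_ext rfl fun _ => ?_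
  exact (Category.comp_id _).trans (Category.comp_id _)

lemma pt_injective {W : C} {Z : FormalCoproduct.{u} C} {φ ψ : single W ⟶ Z} (h : pt φ = pt ψ) : φ = ψ :=
  (unpt_pt φ).symm.trans ((congrArg ((unpt Z).app (op W)) h).trans (unpt_pt ψ))

lemma exists_pt {W : C} {Z : FormalCoproduct.{u} C} (x : (ev Z).obj (op W)) : ∃ φ : single W ⟶ Z, pt φ = x := by
  obtain ⟨⟨i⟩, f, rfl⟩ := Types.jointly_surjective_of_isColimit
    (isColimitOfPreserves ((evaluation Cᵒᵖ (Type u)).obj (op W))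
      (colimit.isColimit (Discrete.functor fun i => yoneda.obj (Z.obj i)))) x
  exact ⟨FormalCoproduct.Hom.fromIncl i f, rfl⟩

variable (J) in
/-- Local surjectivity on maps from single objects. -/
def HomLocSurj {Z Z' : FormalCoproduct.{u} C} (f : Z ⟶ Z') : Prop :=
  ∀ (W : C) (c : single W ⟶ Z'), ∃ R ∈ J W, ∀ ⦃V : C⦄ (g : V ⟶ W), R.arrows g →
    ∃ t : single V ⟶ Z, t ≫ f = (FormalCoproduct.incl C).map g ≫ c

lemma homLocSurj_iff {Z Z' : FormalCoproduct.{u} C} (f : Z ⟶ Z') :
    HomLocSurj J f ↔ Presheaf.IsLocallySurjective J (FormalCoproduct.yoneda.map f) := by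
  constructor
  · refine fun h => ⟨fun {W} s => ?_⟩
    obtain ⟨c, rfl⟩ := exists_pt s
    obtain ⟨R, hR, hR'⟩ := h W c
    refine J.superset_covering (fun V g hg => ?_) hR
    obtain ⟨t, ht⟩ := hR' g hg
    exact ⟨pt t, (pt_comp t f).symm.trans ((congrArg pt ht).trans (pt_map g c))⟩
  · intro h W c
    refine ⟨_, Presheaf.imageSieve_mem J (FormalCoproduct.yoneda.map f) (pt c), fun V g ⟨s, hs⟩ => ?_⟩
    obtain ⟨t, rfl⟩ := exists_pt s
    exact ⟨t, pt_injective ((pt_comp t f).trans (hs.trans (pt_map g c).symm))⟩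

/-- A formal coproduct of copies of one object. -/
abbrev copow (W : C) : Type u ⥤ FormalCoproduct.{u} C where
  obj S := ⟨S, fun _ => W⟩
  map f := ⟨fun x => f x, fun _ => 𝟙 W⟩
  map_id S := FormalCoproduct.hom_ext rfl fun _ => Category.comp_id _
  map_comp f g := FormalCoproduct.hom_ext rfl fun _ =>
    (Category.comp_id _).trans (Category.comp_id (𝟙 W)).symm

/-- The inclusion of a copy. -/
abbrev inj {W : C} {S : Type u} (x : S) : single W ⟶ (copow W).obj S := FormalCoproduct.Hom.fromIncl x (𝟙 W)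

lemma inj_map {W : C} {S S' : Type u} (x : S) (f : S ⟶ S') :
    inj (W := W) x ≫ (copow W).map f = inj (f x) :=
  FormalCoproduct.hom_ext rfl fun _ => (Category.comp_id _).trans (Category.id_comp _)

lemma copow_hom_ext {W : C} {S : Type u} {Z : FormalCoproduct.{u} C} {φ ψ : (copow W).obj S ⟶ Z}
    (h : ∀ x, inj x ≫ φ = inj x ≫ ψ) : φ = ψ := by
  refine (FormalCoproduct.hom_ext_iff' φ ψ).2 fun x => ?_
  obtain ⟨h1, h2⟩ := (FormalCoproduct.hom_ext_iff' _ _).1 (h x) PUnit.unit
  refine ⟨h1, ?_⟩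
  exact ((congrArg (· ≫ eqToHom _) (Category.id_comp (φ.φ x))).symm.trans h2).trans (Category.id_comp _)

/-- A map out of a copower. -/
abbrev copowDesc {W : C} {S : Type u} {Z : FormalCoproduct.{u} C} (a : S → (single W ⟶ Z)) :
    (copow W).obj S ⟶ Z :=
  ⟨fun x => (a x).f PUnit.unit, fun x => (a x).φ PUnit.unit⟩

lemma inj_copowDesc {W : C} {S : Type u} {Z : FormalCoproduct.{u} C} (a : S → (single W ⟶ Z)) (x : S) :
    inj x ≫ copowDesc a = a x :=
  FormalCoproduct.hom_ext rfl fun _ => (Category.comp_id _).trans (Category.id_comp _)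

variable (K : SimplicialObject (FormalCoproduct.{u} C))

/-- The simplicial presheaf of a simplicial formal coproduct. -/
noncomputable abbrev evS : SimplicialObject (Cᵒᵖ ⥤ Type u) := K ⋙ FormalCoproduct.yoneda

lemma face_pt {n : ℕ} {W : C} (i : Fin (n + 2)) (φ : single W ⟶ K _⦋n + 1⦌) :
    face (Y := evS K) i (pt φ) = pt (φ ≫ K.δ i) := (pt_comp φ (K.δ i)).symm

/-- Boundary compatibility for maps. -/
def HomCompat : ∀ {n : ℕ} {W : C}, (Fin (n + 2) → (single W ⟶ K _⦋n⦌)) → Prop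
  | 0, _, _ => True
  | _ + 1, _, s => ∀ i j, i ≤ j → s j.succ ≫ K.δ i = s i.castSucc ≫ K.δ j

variable {K}

lemma boundary_wd_lt {n : ℕ} {W : C} {s : Fin (n + 2) → (single W ⟶ K _⦋n⦌)} (hs : HomCompat K s)
    {Δ : SimplexCategory} {i j : Fin (n + 2)} (hij : i < j) (ψ ψ' : Δ ⟶ ⦋n⦌)
    (h : ψ ≫ SimplexCategory.δ i = ψ' ≫ SimplexCategory.δ j) :
    s i ≫ K.map ψ.op = s j ≫ K.map ψ'.op := by
  cases n with
  | zero =>
    have hi : i = 0 := Fin.ext (by have := Fin.lt_def.1 hij; have := j.2; simp; omega)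
    have hj : j = 1 := Fin.ext (by have := Fin.lt_def.1 hij; have := j.2; simp; omega)
    subst hi hj
    have := DFunLike.congr_fun (congrArg SimplexCategory.Hom.toOrderHom h) 0
    have e1 : ψ.toOrderHom 0 = (0 : Fin 1) := Subsingleton.elim (α := Fin 1) _ _
    have e2 : ψ'.toOrderHom 0 = (0 : Fin 1) := Subsingleton.elim (α := Fin 1) _ _
    simp [SimplexCategory.δ, e1, e2] at this
  | succ p =>
    obtain ⟨j, rfl⟩ : ∃ j' : Fin (p + 2), j = j'.succ :=
      ⟨j.pred (Fin.ne_zero_of_lt hij), (Fin.succ_pred _ _).symm⟩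
    obtain ⟨i, rfl⟩ : ∃ i' : Fin (p + 2), i = i'.castSucc :=
      ⟨i.castPred (Fin.ne_last_of_lt hij), (Fin.castSucc_castPred _ _).symm⟩
    have hle : i ≤ j := Fin.castSucc_lt_succ_iff.1 hij
    have hmiss : ∀ x, ψ'.toOrderHom x ≠ i := by
      intro x hx
      have := DFunLike.congr_fun (congrArg SimplexCategory.Hom.toOrderHom h) x
      refine Fin.succAbove_ne i.castSucc (ψ.toOrderHom x) (this.trans ?_)
      show j.succ.succAbove (ψ'.toOrderHom x) = i.castSucc
      rw [hx]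
      exact Fin.succAbove_succ_of_le _ _ hle
    obtain ⟨χ, rfl⟩ := SimplexCategory.eq_comp_δ_of_not_surjective' ψ' i hmiss
    obtain rfl : ψ = χ ≫ SimplexCategory.δ j := by
      rw [← cancel_mono (SimplexCategory.δ i.castSucc), h, Category.assoc, Category.assoc,
        SimplexCategory.δ_comp_δ hle]
    rw [op_comp, op_comp, K.map_comp, K.map_comp, ← Category.assoc, ← Category.assoc]
    exact (congrArg (· ≫ K.map χ.op) (hs i j hle)).symm

lemma boundary_wd {n : ℕ} {W : C} {s : Fin (n + 2) → (single W ⟶ K _⦋n⦌)} (hs : HomCompat K s)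
    {Δ : SimplexCategory} (i j : Fin (n + 2)) (ψ ψ' : Δ ⟶ ⦋n⦌)
    (h : ψ ≫ SimplexCategory.δ i = ψ' ≫ SimplexCategory.δ j) :
    s i ≫ K.map ψ.op = s j ≫ K.map ψ'.op := by
  rcases lt_trichotomy i j with hij | rfl | hij
  · exact boundary_wd_lt hs hij ψ ψ' h
  · rw [(cancel_mono _).1 h]
  · exact (boundary_wd_lt hs hij ψ' ψ h.symm).symm

lemma exists_factor {n : ℕ} {Δ : SimplexCategory} (hΔ : Δ.len ≤ n) (φ : Δ ⟶ ⦋n + 1⦌) :
    ∃ (i : Fin (n + 2)) (ψ : Δ ⟶ ⦋n⦌), φ = ψ ≫ SimplexCategory.δ i := by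
  refine SimplexCategory.eq_comp_δ_of_not_surjective φ fun hs => ?_
  have := Fintype.card_le_of_surjective _ hs
  simp at this
  omega

variable (K) in
/-- The copower of a standard simplex. -/
noncomputable abbrev copowSimplex (W : C) (n : ℕ) : SimplicialObject (FormalCoproduct.{u} C) :=
  (SSet.stdSimplex.{u}.obj ⦋n⦌ : SSet.{u}) ⋙ copow W

/-- Local surjectivity of the coskeleton unit gives local fillings. -/
theorem exists_fill [∀ (n : ℕ) (F : (SimplexCategory.Truncated n)ᵒᵖ ⥤ FormalCoproduct.{u} C),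
      (SimplexCategory.Truncated.inclusion n).op.HasRightKanExtension F] {n : ℕ}
    (hu : HomLocSurj J (((SimplicialObject.coskAdj n).unit.app K).app (op ⦋n + 1⦌)))
    {W : C} {s : Fin (n + 2) → (single W ⟶ K _⦋n⦌)} (hs : HomCompat K s) :
    ∃ R ∈ J W, ∀ ⦃V : C⦄ (g : V ⟶ W), R.arrows g → ∃ t : single V ⟶ K _⦋n + 1⦌,
      ∀ i, t ≫ K.δ i = (FormalCoproduct.incl C).map g ≫ s i := by
  choose I P hP using fun (Δ : SimplexCategory) (hΔ : Δ.len ≤ n) (φ : Δ ⟶ ⦋n + 1⦌) => exists_factor hΔ φ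
  let α : (SimplicialObject.truncation n).obj (copowSimplex W (n + 1)) ⟶ (SimplicialObject.truncation n).obj K :=
    { app := fun m => copowDesc fun x =>
        s (I m.unop.1 m.unop.2 (SSet.stdSimplex.objEquiv x)) ≫ K.map (P m.unop.1 m.unop.2 (SSet.stdSimplex.objEquiv x)).op
      naturality := fun m m' θ => copow_hom_ext fun x => by
        refine (Category.assoc _ _ _).symm.trans ?_
        refine ((congrArg (· ≫ _) (inj_map x _)).trans (inj_copowDesc _ _)).trans ?_
        refine Eq.trans ?_ (Category.assoc _ _ _)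
        refine Eq.trans ?_ (congrArg (· ≫ K.map θ.unop.hom.op) (inj_copowDesc _ x)).symm
        refine (boundary_wd hs _ (I m.unop.1 m.unop.2 (SSet.stdSimplex.objEquiv x)) _ (θ.unop.hom ≫ P m.unop.1 m.unop.2 (SSet.stdSimplex.objEquiv x)) ?_).trans ?_
        · rw [Category.assoc, ← hP, ← hP]
          rfl
        · rw [op_comp, K.map_comp, ← Category.assoc]
          rfl }
  let T := (SimplicialObject.coskAdj n).homEquiv (copowSimplex W (n + 1)) _ α
  let c : single W ⟶ _ := inj (SSet.stdSimplex.objEquiv.{u}.symm (𝟙 ⦋n + 1⦌) :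
    (SSet.stdSimplex.{u}.obj ⦋n + 1⦌).obj (op ⦋n + 1⦌)) ≫ T.app (op ⦋n + 1⦌)
  obtain ⟨R, hR, hR'⟩ := hu W c
  refine ⟨R, hR, fun V g hg => ?_⟩
  obtain ⟨t, ht⟩ := hR' g hg
  refine ⟨t, fun i => ?_⟩
  let η := (SimplicialObject.coskAdj (C := FormalCoproduct.{u} C) n).unit.app K
  let ε := (SimplicialObject.coskAdj (C := FormalCoproduct.{u} C) n).counit.app ((SimplicialObject.truncation n).obj K)
  let m : (SimplexCategory.Truncated n)ᵒᵖ := op ⟨⦋n⦌, le_rfl⟩
  have hη : η.app (op ⦋n⦌) ≫ ε.app m = 𝟙 _ :=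
    NatTrans.congr_app ((SimplicialObject.coskAdj n).left_triangle_components K) m
  have hT : T.app (op ⦋n⦌) ≫ ε.app m = α.app m :=
    NatTrans.congr_app (((SimplicialObject.coskAdj n).homEquiv_counit _ _ T).symm.trans
      (((SimplicialObject.coskAdj n).homEquiv _ _).symm_apply_apply α)) m
  let x : (SSet.stdSimplex.{u}.obj ⦋n + 1⦌).obj (op ⦋n⦌) := SSet.stdSimplex.objEquiv.{u}.symm (SimplexCategory.δ i)
  have hx : inj (W := W) (SSet.stdSimplex.objEquiv.{u}.symm (𝟙 ⦋n + 1⦌) :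
      (SSet.stdSimplex.{u}.obj ⦋n + 1⦌).obj (op ⦋n + 1⦌)) ≫ (copowSimplex W (n + 1)).map (SimplexCategory.δ i).op =
      inj x :=
    (inj_map _ _).trans (congrArg inj ((SSet.stdSimplex.map_objEquiv_symm _ _).trans
      (congrArg SSet.stdSimplex.objEquiv.symm (Category.comp_id (SimplexCategory.δ i)))))
  let d := ((SimplicialObject.Truncated.cosk n).obj ((SimplicialObject.truncation n).obj K)).map (SimplexCategory.δ i).op
  have e1 : t ≫ K.δ i = t ≫ K.δ i ≫ η.app (op ⦋n⦌) ≫ ε.app m :=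
    congrArg (t ≫ ·) ((congrArg (K.δ i ≫ ·) hη).trans (Category.comp_id _)).symm
  refine e1.trans ?_
  refine (congrArg (t ≫ ·) (η.naturality_assoc (SimplexCategory.δ i).op (ε.app m))).trans ?_
  refine ((Category.assoc _ _ _).symm.trans (congrArg (· ≫ d ≫ ε.app m) ht)).trans ?_
  refine Eq.trans ?_ (congrArg ((FormalCoproduct.incl C).map g ≫ ·) (?_ : inj x ≫ α.app m = s i))
  · refine (Category.assoc _ _ _).trans (congrArg ((FormalCoproduct.incl C).map g ≫ ·) ?_)
    refine (Category.assoc _ _ _).trans ?_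
    refine (congrArg (inj _ ≫ ·) (T.naturality_assoc (SimplexCategory.δ i).op (ε.app m)).symm).trans ?_
    refine (Category.assoc _ _ _).symm.trans ?_
    exact (congrArg (· ≫ T.app (op ⦋n⦌) ≫ ε.app m) hx).trans (congrArg (inj x ≫ ·) hT)
  · refine (inj_copowDesc _ x).trans ?_
    refine (boundary_wd hs _ i _ (𝟙 _) ?_).trans ?_
    · exact ((hP _ _ _).symm.trans ((SSet.stdSimplex.objEquiv.{u}).apply_symm_apply _)).trans
        (Category.id_comp _).symm
    · exact (congrArg (s i ≫ ·) (K.map_id _)).trans (Category.comp_id _)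

lemma exists_pts {n : ℕ} {W : C} (s : Fin (n + 2) → Sect (evS K) n W) (hs : Compat s) :
    ∃ φ : Fin (n + 2) → (single W ⟶ K _⦋n⦌), (∀ i, pt (φ i) = s i) ∧ HomCompat K φ := by
  choose φ hφ using fun i => exists_pt (s i)
  refine ⟨φ, hφ, ?_⟩
  cases n with
  | zero => trivial
  | succ p =>
    intro i j hij
    refine pt_injective ?_
    rw [← face_pt, ← face_pt]
    exact ((congrArg (face i) (hφ _)).trans (hs i j hij)).trans (congrArg (face j) (hφ _)).symm

/-- An element of the final presheaf. -/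
noncomputable abbrev termPt (W : C) : (⊤_ (Cᵒᵖ ⥤ Type u)).obj (op W) := yonedaEquiv (terminal.from (yoneda.obj W))

lemma pointSieve_le {Y : SimplicialObject (Cᵒᵖ ⥤ Type u)} {W : C} (s : (⊤_ (Cᵒᵖ ⥤ Type u)).obj (op W)) :
    pointSieve (Y := Y) W ≤ Presheaf.imageSieve (terminal.from (Y _⦋0⦌)) s := by
  rintro V g ⟨y⟩
  exact ⟨y, yonedaEquiv.symm.injective (terminal.hom_ext _ _)⟩

variable [∀ (n : ℕ) (F : (SimplexCategory.Truncated n)ᵒᵖ ⥤ FormalCoproduct.{u} C),
      (SimplexCategory.Truncated.inclusion n).op.HasRightKanExtension F]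

lemma fillSieve_mem_of_homLocSurj {n : ℕ}
    (hu : HomLocSurj J (((SimplicialObject.coskAdj n).unit.app K).app (op ⦋n + 1⦌)))
    {W : C} (s : Fin (n + 2) → Sect (evS K) n W) (hs : Compat s) : fillSieve s ∈ J W := by
  obtain ⟨φ, hφ, hc⟩ := exists_pts s hs
  obtain ⟨R, hR, hR'⟩ := exists_fill hu hc
  refine J.superset_covering (fun V g hg => ?_) hR
  obtain ⟨t, ht⟩ := hR' g hg
  exact ⟨pt t, fun i => (face_pt K i t).trans ((congrArg pt (ht i)).trans
    ((pt_map g (φ i)).trans (congrArg (rs (Y := evS K) g) (hφ i))))⟩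

/-- Hypercoverings in Verdier's sense are fillable. -/
theorem isFillable_of_isHypercoveringSite (hK : Hyper.IsHypercoveringSite J K) : IsFillable J (evS K) where
  point W := by
    haveI := hK.1
    refine J.superset_covering ?_ (Presheaf.imageSieve_mem J (terminal.from (ev (K _⦋0⦌))) (termPt W))
    rintro V g ⟨y, -⟩
    exact ⟨y⟩
  fill n W s hs := by
    match n with
    | 0 =>
      haveI := hK.2.1
      let P := ev (K _⦋0⦌)
      let z : (P ⨯ P).obj (op W) := yonedaEquiv (prod.lift (yonedaEquiv.symm (s 1)) (yonedaEquiv.symm (s 0)))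
      have h1 : (prod.fst : P ⨯ P ⟶ P).app (op W) z = s 1 :=
        (yonedaEquiv_comp _ _).symm.trans ((congrArg yonedaEquiv (prod.lift_fst _ _)).trans (yonedaEquiv.apply_symm_apply _))
      have h0 : (prod.snd : P ⨯ P ⟶ P).app (op W) z = s 0 :=
        (yonedaEquiv_comp _ _).symm.trans ((congrArg yonedaEquiv (prod.lift_snd _ _)).trans (yonedaEquiv.apply_symm_apply _))
      refine J.superset_covering ?_ (Presheaf.imageSieve_mem J
        (prod.lift (FormalCoproduct.yoneda.map (K.δ (1 : Fin 2))) (FormalCoproduct.yoneda.map (K.δ (0 : Fin 2)))) z)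
      rintro V g ⟨t, ht⟩
      refine ⟨t, fun i => ?_⟩
      fin_cases i
      · refine Eq.trans (ConcreteCategory.congr_hom (NatTrans.congr_app (prod.lift_snd (FormalCoproduct.yoneda.map (K.δ (1 : Fin 2))) (FormalCoproduct.yoneda.map (K.δ (0 : Fin 2)))).symm (op V)) t) ?_
        exact (congrArg ((prod.snd : P ⨯ P ⟶ P).app (op V)) ht).trans
          ((ConcreteCategory.congr_hom ((prod.snd : P ⨯ P ⟶ P).naturality g.op) z).trans (congrArg (rs (Y := evS K) g) h0))
      · refine Eq.trans (ConcreteCategory.congr_hom (NatTrans.congr_app (prod.lift_fst (FormalCoproduct.yoneda.map (K.δ (1 : Fin 2))) (FormalCoproduct.yoneda.map (K.δ (0 : Fin 2)))).symm (op V)) t) ?_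
        exact (congrArg ((prod.fst : P ⨯ P ⟶ P).app (op V)) ht).trans
          ((ConcreteCategory.congr_hom ((prod.fst : P ⨯ P ⟶ P).naturality g.op) z).trans (congrArg (rs (Y := evS K) g) h1))
    | p + 1 => exact fillSieve_mem_of_homLocSurj ((homLocSurj_iff _).2 (hK.2.2 (p + 1) (Nat.le_add_left 1 p))) s hs

end Groth.Agent.HypAcyc
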